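import Groth.Agent.Lib.DCxKFlat.LBaseKFlat
import Groth.Agent.Lib.DTen.HomTest
import Groth.Agent.Lib.DCxRing.Stupid
import Groth.Agent.Lib.DualCx22.Coind
import Groth.Agent.Lib.DualRing.Hom
import Mathlib.RingTheory.Ideal.Operations

/-! # Detecting the derived fibre on the diagonal -/

set_option autoImplicit false
set_option linter.style.haveILetI false
set_option maxHeartbeats 800000
universe u

open CategoryTheory CategoryTheory.Limits CategoryTheory.Pretriangulated HomologicalComplex ZeroObject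

attribute [local instance] HasDerivedCategory.standard

namespace GrothLib.RelDual22

variable {B : Type u} [CommRing B]

/-- An ideal kills the cohomology of an object, which is concentrated in a range. -/
def KilledIn (J : Ideal B) (X : Dual.D B) : Prop :=
  (∃ a b : ℤ, ∀ i, i < a ∨ b < i → Subsingleton (Dual.HD B X i)) ∧
    ∃ N : ℕ, ∀ i, ∀ s ∈ J ^ N, ∀ y : Dual.HD B X i, s • y = 0

theorem homologyFunctor_map_smul_id (X : Dual.D B) (x : B) (i : ℤ) (y : Dual.HD B X i) :
    ((DerivedCategory.homologyFunctor (ModuleCat.{u} B) i).map (x • 𝟙 X)).hom y = x • y := by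
  let H := DerivedCategory.homologyFunctor (ModuleCat.{u} B) i
  let e := (DerivedCategory.Q (C := ModuleCat.{u} B)).objObjPreimageIso X
  let K : CochainComplex (ModuleCat.{u} B) ℤ := (DerivedCategory.Q (C := ModuleCat.{u} B)).objPreimage X
  have h0 : HomologicalComplex.homologyMap (x • 𝟙 K) i = x • 𝟙 (K.homology i) := by
    have hc : cyclesMap (x • 𝟙 K) i = x • 𝟙 (K.cycles i) := by
      rw [← cancel_mono (K.iCycles i), cyclesMap_i, Linear.smul_comp, Category.id_comp,
        HomologicalComplex.smul_f_apply, HomologicalComplex.id_f, Linear.comp_smul, Category.comp_id]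
    rw [← cancel_epi (K.homologyπ i), homologyπ_naturality, hc, Linear.smul_comp, Linear.comp_smul,
      Category.id_comp, Category.comp_id]
  let E := ((DerivedCategory.homologyFunctorFactors (ModuleCat.{u} B) i).app K).toLinearEquiv
  have h1 : ∀ z, (H.map ((DerivedCategory.Q (C := ModuleCat.{u} B)).map (x • 𝟙 K))).hom z = x • z := fun z => by
    refine E.injective ?_
    rw [map_smul]
    refine (ConcreteCategory.congr_hom
      ((DerivedCategory.homologyFunctorFactors (ModuleCat.{u} B) i).hom.naturality (x • 𝟙 K)) z).trans ?_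
    exact (ConcreteCategory.congr_hom h0 (E z))
  have h2 : x • 𝟙 X = e.inv ≫ (DerivedCategory.Q (C := ModuleCat.{u} B)).map (x • 𝟙 K) ≫ e.hom := by
    rw [Functor.map_smul, CategoryTheory.Functor.map_id, Linear.smul_comp, Linear.comp_smul, Category.id_comp,
      e.inv_hom_id]
  let E' := (H.mapIso e).toLinearEquiv
  rw [h2, Functor.map_comp, Functor.map_comp]
  change E' ((H.map ((DerivedCategory.Q (C := ModuleCat.{u} B)).map (x • 𝟙 K))).hom (E'.symm y)) = _
  rw [h1, map_smul, LinearEquiv.apply_symm_apply]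

theorem subsingleton_of_exact {M₁ M₃ M₄ : Type u} [AddCommGroup M₁] [AddCommGroup M₃] [AddCommGroup M₄]
    [Module B M₁] [Module B M₃] [Module B M₄] (f : M₁ →ₗ[B] M₃) (d : M₃ →ₗ[B] M₄)
    (hex : ∀ y, d y = 0 → ∃ z, f z = y) (h₁ : Subsingleton M₁) (h₄ : Subsingleton M₄) : Subsingleton M₃ :=
  subsingleton_of_forall_eq 0 fun y => by
    obtain ⟨z, rfl⟩ := hex y (h₄.elim _ _)
    rw [h₁.elim z 0, map_zero]

theorem sup_pow_le (I J : Ideal B) (N : ℕ) : (I ⊔ J) ^ N ≤ I ⊔ J ^ N := by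
  induction N with
  | zero => simp
  | succ k ih =>
    rw [pow_succ, pow_succ]
    refine (Ideal.mul_mono_left ih).trans ?_
    rw [Ideal.mul_sup, Ideal.sup_mul, Ideal.sup_mul]
    exact sup_le (sup_le (le_trans Ideal.mul_le_left le_sup_left) (le_trans Ideal.mul_le_right le_sup_left))
      (sup_le (le_trans Ideal.mul_le_left le_sup_left) le_sup_right)

theorem killed_of_exact {M₁ M₃ M₄ : Type u} [AddCommGroup M₁] [AddCommGroup M₃] [AddCommGroup M₄]
    [Module B M₁] [Module B M₃] [Module B M₄] (f : M₁ →ₗ[B] M₃) (d : M₃ →ₗ[B] M₄)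
    (hex : ∀ y, d y = 0 → ∃ z, f z = y) (x : B) (hf : ∀ z, f (x • z) = 0) (hd : ∀ y, x • d y = 0)
    {J : Ideal B} (N : ℕ) (h₁ : ∀ s ∈ J ^ N, ∀ z : M₁, s • z = 0) (h₄ : ∀ s ∈ J ^ N, ∀ z : M₄, s • z = 0) :
    ∀ s ∈ (Ideal.span {x} ⊔ J) ^ (N + N), ∀ y : M₃, s • y = 0 := by
  intro s hs y
  rw [pow_add] at hs
  induction hs using Submodule.mul_induction_on' with
  | add s _ t _ hs' ht' => rw [add_smul, hs', ht', add_zero]
  | mem_mul_mem s hs' t ht' =>
    obtain ⟨_, hc, j, hj, rfl⟩ := Submodule.mem_sup.1 (sup_pow_le _ _ _ hs')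
    obtain ⟨c, rfl⟩ := Ideal.mem_span_singleton'.1 hc
    obtain ⟨_, hc', j', hj', rfl⟩ := Submodule.mem_sup.1 (sup_pow_le _ _ _ ht')
    obtain ⟨c', rfl⟩ := Ideal.mem_span_singleton'.1 hc'
    obtain ⟨z, hz⟩ := hex ((c' * x + j') • y) (by
      rw [map_smul, add_smul, mul_smul, hd, smul_zero, zero_add, h₄ j' hj'])
    rw [mul_smul, ← hz, ← map_smul, add_smul, mul_smul, map_add, map_smul, hf, smul_zero, zero_add, h₁ j hj,
      map_zero]

/-- The cone of a scalar. -/
theorem killedIn_cone {J : Ideal B} {T1 : Dual.D B} (hX : KilledIn J T1) (x : B) (T3 : Dual.D B) (g : T1 ⟶ T3)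
    (δ : T3 ⟶ T1⟦(1 : ℤ)⟧) (hT : Triangle.mk (x • 𝟙 T1) g δ ∈ distTriang _) :
    KilledIn (Ideal.span {x} ⊔ J) T3 := by
  obtain ⟨⟨a, b, hab⟩, N, hN⟩ := hX
  let H := fun i => DerivedCategory.homologyFunctor (ModuleCat.{u} B) i
  have hex := fun i => DerivedCategory.HomologySequence.exact₃ (Triangle.mk (x • 𝟙 T1) g δ) hT i (i + 1) rfl
  have hex2 := fun i => DerivedCategory.HomologySequence.exact₂ (Triangle.mk (x • 𝟙 T1) g δ) hT i
  have hδf := fun i => DerivedCategory.HomologySequence.δ_comp (Triangle.mk (x • 𝟙 T1) g δ) hT i (i + 1) rfl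
  refine ⟨⟨a - 1, b, fun i hi => subsingleton_of_exact ((H i).map g).hom
      (DerivedCategory.HomologySequence.δ (Triangle.mk (x • 𝟙 T1) g δ) i (i + 1) rfl).hom
      (fun y hy => (ShortComplex.moduleCat_exact_iff _).1 (hex i) y hy) (hab i (by omega)) (hab (i + 1) (by omega))⟩,
    N + N, fun i => killed_of_exact ((H i).map g).hom
      (DerivedCategory.HomologySequence.δ (Triangle.mk (x • 𝟙 T1) g δ) i (i + 1) rfl).hom
      (fun y hy => (ShortComplex.moduleCat_exact_iff _).1 (hex i) y hy) x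
      (fun z => ?_) (fun y => ?_) N (hN i) (hN (i + 1))⟩
  · have hfg : (x • 𝟙 T1) ≫ g = 0 := comp_distTriang_mor_zero₁₂ _ hT
    refine (congrArg (((H i).map g).hom) (homologyFunctor_map_smul_id T1 x i z).symm).trans ?_
    exact (ConcreteCategory.congr_hom (((H i).map_comp (x • 𝟙 T1) g).symm.trans
      ((congrArg (H i).map hfg).trans (Functor.map_zero _ _ _))) z)
  · exact (homologyFunctor_map_smul_id T1 x (i + 1) _).symm.trans (ConcreteCategory.congr_hom (hδf i) y)

theorem comp_shift_smul_id {X Y : Dual.D B} (x : B) (u : X ⟶ Y⟦(1 : ℤ)⟧) : u ≫ (x • 𝟙 Y)⟦(1 : ℤ)⟧' = x • u := by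
  rw [Functor.map_smul, CategoryTheory.Functor.map_id, Linear.comp_smul, Category.comp_id]

theorem comp_smul_id {X Y : Dual.D B} (x : B) (u : X ⟶ Y) : u ≫ (x • 𝟙 Y) = x • u := by
  rw [Linear.comp_smul, Category.comp_id]

/-- Shifts are killed by the same ideal. -/
theorem killedIn_shift {J : Ideal B} {X : Dual.D B} (h : KilledIn J X) (n : ℤ) : KilledIn J (X⟦n⟧) := by
  obtain ⟨⟨a, b, hab⟩, N, hN⟩ := h
  let e : ∀ i, Dual.HD B (X⟦n⟧) i ≃ₗ[B] Dual.HD B X (n + i) := fun i =>
    ((DerivedCategory.homologyFunctor (ModuleCat.{u} B) 0).shiftIso n i (n + i) rfl |>.app X).toLinearEquiv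
  refine ⟨⟨a - n, b - n, fun i hi => ?_⟩, N, fun i s hs y => (e i).injective ?_⟩
  · haveI := hab (n + i) (by omega)
    exact (e i).toEquiv.subsingleton
  · rw [map_smul, map_zero]
    exact hN _ s hs _

/-- Moving a shift across. -/
noncomputable def shiftHomEquiv (X Y : Dual.D B) (i : ℤ) : (X⟦-i⟧ ⟶ Y) ≃ (X ⟶ Y⟦i⟧) :=
  ((Functor.FullyFaithful.ofFullyFaithful (shiftFunctor (Dual.D B) i)).homEquiv).trans
    (Iso.homCongr ((shiftFunctorCompIsoId (Dual.D B) (-i) i (neg_add_cancel i)).app X) (Iso.refl _))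

/-- Objects left orthogonal to `Z`. -/
def Orth (Z : Dual.D B) : ObjectProperty (Dual.D B) := fun X => ∀ i : ℤ, Subsingleton (X ⟶ Z⟦i⟧)

theorem orth_of_iso {Z X Y : Dual.D B} (e : X ≅ Y) (h : Orth Z X) : Orth Z Y :=
  fun i => (e.homFromEquiv (Z := Z⟦i⟧)).symm.subsingleton_congr.2 (h i) |> fun h => h

theorem orth_of_isZero {Z X : Dual.D B} (h : IsZero X) : Orth Z X := fun _ =>
  ⟨fun _ _ => h.eq_of_src _ _⟩

theorem orth_obj₂ {Z : Dual.D B} (T : Triangle (Dual.D B)) (hT : T ∈ distTriang _) (h1 : Orth Z T.obj₁)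
    (h3 : Orth Z T.obj₃) : Orth Z T.obj₂ := fun i => by
  refine subsingleton_of_forall_eq 0 fun t => ?_
  obtain ⟨s, hs⟩ := Triangle.yoneda_exact₂ T hT t ((h1 i).elim _ _)
  rw [hs, (h3 i).elim s 0, comp_zero]

theorem orth_shift {Z X : Dual.D B} (n : ℤ) (h : Orth Z X) : Orth Z (X⟦n⟧) := fun i => by
  haveI := h (i - n)
  let e : (X ⟶ Z⟦i - n⟧) ≃ (X⟦n⟧ ⟶ Z⟦i⟧) :=
    ((Functor.FullyFaithful.ofFullyFaithful (shiftFunctor (Dual.D B) n)).homEquiv).trans
      (Iso.homCongr (Iso.refl _) (((shiftFunctorAdd' (Dual.D B) (i - n) n i (by omega)).app Z).symm))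
  exact e.symm.subsingleton

/-- A module killed by the kernel of a retraction of rings comes from the retract. -/
theorem exists_restrict_iso {A : Type u} [CommRing A] (l : A →+* B) (μ : B →+* A) (hl : μ.comp l = RingHom.id A)
    (M : ModuleCat.{u} B) (hM : ∀ s ∈ RingHom.ker μ, ∀ m : M, s • m = 0) :
    Nonempty ((ModuleCat.restrictScalars.{u} μ).obj ((ModuleCat.restrictScalars.{u} l).obj M) ≅ M) := by
  have key : ∀ (s : B) (m : M), l (μ s) • m = s • m := fun s m => by
    have h := hM (l (μ s) - s) (by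
      rw [RingHom.mem_ker, map_sub, show μ (l (μ s)) = μ s from RingHom.congr_fun hl (μ s), sub_self]) m
    rwa [sub_smul, sub_eq_zero] at h
  let e : ((ModuleCat.restrictScalars.{u} μ).obj ((ModuleCat.restrictScalars.{u} l).obj M) : Type u) ≃ₗ[B] (M : Type u) :=
    { toFun := fun m => (show M from m), invFun := fun m => m, left_inv := fun _ => rfl,
      right_inv := fun _ => rfl, map_add' := fun _ _ => rfl, map_smul' := fun s m => key s m }
  exact ⟨e.toModuleIso⟩

variable {A : Type u} [CommRing A] (μ : B →+* A)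

/-- **Detection.** -/
theorem acyclic_bc_of_orth : ∀ (xs : List B), (∀ x ∈ xs, μ x = 0) → ∀ (Z : DRing.Cx B), GrothLib.KF.IsKFlat Z →
    (∀ X, KilledIn (Ideal.span {x | x ∈ xs}) X → Orth (DRing.toD Z) X) → ((DR.bc μ).obj Z).Acyclic
  | [], _, Z, hZ, h => by
    have hz : ∀ i, Subsingleton (GrothLib.DT.S B i ⟶ DRing.toD Z) := fun i => by
      have hk : KilledIn (Ideal.span {x | x ∈ ([] : List B)}) (GrothLib.DT.S B i) := by
        refine ⟨⟨i, i, fun j hj => ?_⟩, 1, fun j s hs y => ?_⟩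
        · refine (GrothLib.DR.subsingleton_iff_isZero _).2 (IsZero.of_iso ?_
            ((DerivedCategory.homologyFunctorFactors (ModuleCat.{u} B) j).app _))
          exact ShortComplex.isZero_homology_of_isZero_X₂ _ (GrothLib.DT.vanishesOutside_sCx (A := B) i j hj)
        · have : s = 0 := by simpa using hs
          rw [this, zero_smul]
      exact (Iso.homCongr (Iso.refl _) ((shiftFunctorZero (Dual.D B) ℤ).app (DRing.toD Z))).symm.subsingleton_congr.2
        (h _ hk 0)
    have hZ0 := GrothLib.DT.isZero_of_subsingleton hz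
    haveI : QuasiIso (0 : Z ⟶ 0) := (DerivedCategory.isIso_Q_map_iff_quasiIso (ModuleCat.{u} B) _).1
      (hZ0.isIso (Functor.map_isZero _ (isZero_zero _)) _)
    have h0 : GrothLib.KF.IsKFlat (0 : DRing.Cx B) := GrothLib.KF.isKFlat_of_isZero (isZero_zero _)
    haveI hqb : QuasiIso ((DR.bc μ).map (0 : Z ⟶ 0)) := GrothLib.KF.quasiIso_bc_map μ (0 : Z ⟶ 0) hZ h0
    intro i
    rw [exactAt_iff_isZero_homology]
    haveI hqi : QuasiIsoAt ((DR.bc μ).map (0 : Z ⟶ 0)) i := hqb.quasiIsoAt i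
    haveI hii : IsIso (homologyMap ((DR.bc μ).map (0 : Z ⟶ 0)) i) := (quasiIsoAt_iff_isIso_homologyMap _ i).1 hqi
    exact IsZero.of_iso ((homologyFunctor _ _ i).map_isZero ((DR.bc μ).map_isZero (isZero_zero _)))
      (@asIso _ _ _ _ (homologyMap ((DR.bc μ).map (0 : Z ⟶ 0)) i) hii)
  | x :: xs, hμ, Z, hZ, h => by
    let φ : Z ⟶ Z := x • 𝟙 Z
    have hs : Ideal.span {y | y ∈ x :: xs} = Ideal.span {x} ⊔ Ideal.span {y | y ∈ xs} := by
      rw [← Ideal.span_union]
      congr 1
      ext y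
      simp
    have h₀ : ∀ X, KilledIn (Ideal.span {y | y ∈ xs}) X →
        Subsingleton (X ⟶ DRing.toD (CochainComplex.mappingCone φ)) := by
      intro X hX
      obtain ⟨C, g, d, hT⟩ := distinguished_cocone_triangle (x • 𝟙 X)
      have hC : Orth (DRing.toD Z) C := h C (hs ▸ killedIn_cone hX x C g d hT)
      have hbij : ∀ Y : Dual.D B, Subsingleton (C ⟶ Y) → Subsingleton (C⟦(-1 : ℤ)⟧ ⟶ Y) →
          (∀ t : X ⟶ Y, x • t = 0 → t = 0) ∧ ∀ t : X ⟶ Y, ∃ t', x • t' = t := by
        intro Y hY hY'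
        have e : ∀ t : X ⟶ Y, (x • 𝟙 X) ≫ t = x • t := fun t => by rw [Linear.smul_comp, Category.id_comp]
        refine ⟨fun t ht => ?_, fun t => ?_⟩
        · obtain ⟨t', rfl⟩ := Triangle.yoneda_exact₂ (Triangle.mk (x • 𝟙 X) g d) hT t ((e t).trans ht)
          rw [show t' = 0 from hY.elim _ _]
          exact comp_zero
        · obtain ⟨t', ht'⟩ := Triangle.yoneda_exact₂ (Triangle.mk (x • 𝟙 X) g d).invRotate
            (inv_rot_of_distTriang _ hT) t (hY'.elim _ _)
          exact ⟨t', (e t').symm.trans ht'.symm⟩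
      have hC0 : ∀ W₀ : Dual.D B, Orth (DRing.toD Z) W₀ → Subsingleton (W₀ ⟶ DRing.toD Z) := fun W₀ hW₀ =>
        (((shiftFunctorZero (Dual.D B) ℤ).app (DRing.toD Z)).homToEquiv (Z := W₀)).symm.subsingleton_congr.2 (hW₀ 0)
      obtain ⟨-, hsurj⟩ := hbij _ (hC0 _ hC) (hC0 _ (orth_shift (-1 : ℤ) hC))
      obtain ⟨hinj, -⟩ := hbij _ (hC 1) (orth_shift (-1 : ℤ) hC 1)
      let T := DerivedCategory.Q.mapTriangle.obj (CochainComplex.mappingCone.triangle φ)
      have hTd : T ∈ distTriang _ := (DerivedCategory.mem_distTriang_iff _).2 ⟨Z, Z, φ, ⟨Iso.refl _⟩⟩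
      have hφ : T.mor₁ = x • 𝟙 (DRing.toD Z) := by
        change DerivedCategory.Q.map (x • 𝟙 Z) = _
        rw [Functor.map_smul, CategoryTheory.Functor.map_id]
      refine subsingleton_of_forall_eq 0 fun t => ?_
      have hu : t ≫ T.mor₃ = 0 := by
        refine hinj _ ?_
        have h3 : (t ≫ T.mor₃) ≫ T.mor₁⟦(1 : ℤ)⟧' = 0 :=
          (Category.assoc _ _ _).trans ((congrArg (t ≫ ·) (comp_distTriang_mor_zero₃₁ _ hTd)).trans comp_zero)
        rw [hφ] at h3
        exact (comp_shift_smul_id (Y := DRing.toD Z) x _).symm.trans h3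
      obtain ⟨t₂, ht₂⟩ := Triangle.coyoneda_exact₃ _ hTd t hu
      obtain ⟨t₁, ht₁⟩ := hsurj t₂
      have h6 : (t₁ : X ⟶ T.obj₁) ≫ T.mor₁ = t₂ := by
        rw [hφ]
        exact (comp_smul_id (Y := DRing.toD Z) x _).trans ht₁
      rw [ht₂, ← h6]
      exact (Category.assoc _ _ _).trans ((congrArg (t₁ ≫ ·) (comp_distTriang_mor_zero₁₂ _ hTd)).trans comp_zero)
    have h' : ∀ X, KilledIn (Ideal.span {y | y ∈ xs}) X → Orth (DRing.toD (CochainComplex.mappingCone φ)) X := by
      intro X hX i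
      haveI := h₀ _ (killedIn_shift hX (-i))
      exact (shiftHomEquiv X (DRing.toD (CochainComplex.mappingCone φ)) i).symm.subsingleton
    have hcK : GrothLib.KF.IsKFlat (CochainComplex.mappingCone φ) := GrothLib.KF.isKFlat_mappingCone φ hZ hZ
    have hc := acyclic_bc_of_orth xs (fun y hy => hμ y (List.mem_cons_of_mem _ hy)) _ hcK h'
    have hz : (DR.bc μ).map φ = 0 := by
      refine HomologicalComplex.hom_ext _ _ fun n => ?_
      letI := μ.toAlgebra
      refine ModuleCat.ExtendScalars.hom_ext fun z => ?_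
      change (1 : A) ⊗ₜ[B] (x • (z : Z.X n)) = 0
      rw [← TensorProduct.smul_tmul, Algebra.smul_def, RingHom.algebraMap_toAlgebra, hμ x List.mem_cons_self,
        zero_mul, TensorProduct.zero_tmul]
    have hq : QuasiIso ((DR.bc μ).map φ) := (DerCat.quasiIso_iff_acyclic_mappingCone _).2
      (DerCat.acyclic_of_iso (CochainComplex.mappingCone.mapHomologicalComplexIso φ
        (ModuleCat.extendScalars.{u, u, u} μ)) hc)
    rw [hz] at hq
    intro i
    rw [exactAt_iff_isZero_homology, IsZero.iff_id_eq_zero]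
    have hi : IsIso (homologyMap (0 : (DR.bc μ).obj Z ⟶ (DR.bc μ).obj Z) i) := inferInstance
    rw [homologyMap_zero] at hi
    exact (cancel_epi (0 : ((DR.bc μ).obj Z).homology i ⟶ ((DR.bc μ).obj Z).homology i)).1 (by simp)

/-- **Detection along a retraction.** -/
theorem acyclic_of_retraction (l : A →+* B) (hl : μ.comp l = RingHom.id A) (hJ : (RingHom.ker μ).FG)
    (Z : DRing.Cx B) (hZ : GrothLib.KF.IsKFlat Z)
    (h : ∀ M : Dual.D A, Orth (DRing.toD Z) ((DRing.restrictD μ).obj M)) : ((DR.bc μ).obj Z).Acyclic := by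
  classical
  obtain ⟨s, hs⟩ := hJ
  have hspan : Ideal.span {x | x ∈ s.toList} = RingHom.ker μ := by
    rw [← hs]
    congr 1
    ext x
    simp
  refine acyclic_bc_of_orth μ s.toList (fun x hx => ?_) Z hZ ?_
  · exact (RingHom.mem_ker).1 (hs ▸ Ideal.subset_span (by simpa using hx))
  rw [hspan]
  intro X ⟨⟨a, b, hab⟩, N, hN⟩
  have hmod : ∀ (N : ℕ) (M : ModuleCat.{u} B), (∀ t ∈ RingHom.ker μ ^ N, ∀ m : M, t • m = 0) →
      Orth (DRing.toD Z) (Dual.inD B M) := by
    intro N
    induction N with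
    | zero =>
      intro M hM
      haveI : Subsingleton M := subsingleton_of_forall_eq 0 fun m => by
        rw [← one_smul B m]
        exact hM 1 (by simp) m
      exact orth_of_isZero (Functor.map_isZero _ (ModuleCat.isZero_of_subsingleton _))
    | succ n ih =>
      intro M hM
      let S := ShortComplex.mk (ModuleCat.ofHom (RingHom.ker μ • (⊤ : Submodule B M)).subtype : _ ⟶ M)
        (ModuleCat.ofHom (RingHom.ker μ • (⊤ : Submodule B M)).mkQ)
        (ModuleCat.hom_ext (LinearMap.ext fun m => (Submodule.Quotient.mk_eq_zero _).2 m.2))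
      have hS : S.ShortExact :=
        { exact := (ShortComplex.moduleCat_exact_iff S).2 fun m hm =>
            ⟨⟨m, (Submodule.Quotient.mk_eq_zero _).1 hm⟩, rfl⟩
          mono_f := (ModuleCat.mono_iff_injective _).2 Subtype.val_injective
          epi_g := (ModuleCat.epi_iff_surjective _).2 (Submodule.mkQ_surjective _) }
      refine orth_obj₂ _ hS.singleTriangle_distinguished (ih S.X₁ fun t ht m => Subtype.ext ?_) ?_
      · change t • (m : M) = 0
        obtain ⟨m, hm⟩ := m
        induction hm using Submodule.smul_induction_on' with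
        | smul r hr m _ => rw [smul_smul, hM _ (by rw [pow_succ]; exact Ideal.mul_mem_mul ht hr)]
        | add m _ m' _ h1 h2 => rw [smul_add, h1, h2, add_zero]
      · obtain ⟨e⟩ := exists_restrict_iso l μ hl S.X₃ (fun r hr m => by
          obtain ⟨m, rfl⟩ := Submodule.mkQ_surjective _ (show M ⧸ (RingHom.ker μ • (⊤ : Submodule B M)) from m)
          exact (Submodule.Quotient.mk_eq_zero _).2 (Submodule.smul_mem_smul hr Submodule.mem_top))
        obtain ⟨e'⟩ := GrothLib.DualCx22.nonempty_restrictD_inD μ ((ModuleCat.restrictScalars.{u} l).obj S.X₃)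
        exact orth_of_iso (e' ≪≫ (DerivedCategory.singleFunctor (ModuleCat.{u} B) 0).mapIso e) (h _)
  exact GrothLib.DR.prop_homology (Orth (DRing.toD Z)) (fun e => orth_of_iso e) (fun X hX => orth_of_isZero hX)
    (fun T hT h1 h3 => orth_obj₂ T hT h1 h3) X a b hab
    fun i _ _ => orth_shift _ (hmod N _ (hN i))

end GrothLib.RelDual22
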