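import Groth.Agent.Lib.RelDual22.Phi
import Groth.Agent.Lib.RelDual22.Kill
import Mathlib.RingTheory.TensorProduct.Maps
import Mathlib.RingTheory.FinitePresentation

/-! # Existence and uniqueness of relative dualizing complexes -/

set_option autoImplicit false
set_option linter.style.haveILetI false
set_option maxHeartbeats 800000
universe u

open CategoryTheory CategoryTheory.Limits CategoryTheory.Pretriangulated HomologicalComplex GrothLib.DualCx22
open scoped TensorProduct

attribute [local instance] HasDerivedCategory.standard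
attribute [local instance] GrothLib.DualRing.Shriek.pfl_of_flat

namespace GrothLib.RelDual22

open GrothLib GrothLib.DualRing GrothLib.DualRing.Shriek

section One

variable {A : Type u} [CommRing A]

/-- The ring in degree `i`. -/
noncomputable def sIso (i : ℤ) : GrothLib.DT.S A i ≅ (Dual.inD A A)⟦-i⟧ :=
  ((DerivedCategory.singleFunctorIsoCompQ (ModuleCat.{u} A) i).app _).symm ≪≫
    (((DerivedCategory.singleFunctors (ModuleCat.{u} A)).shiftIso (-i) i 0 (by omega)).app (ModuleCat.of A A)).symm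

theorem subsingleton_S_inD (i : ℤ) (hi : i ≠ 0) : Subsingleton (GrothLib.DT.S A i ⟶ Dual.inD A A) := by
  exact @Equiv.subsingleton _ _
    ((DerivedCategory.singleFunctorIsoCompQ (ModuleCat.{u} A) 0).app (ModuleCat.of A A)).homToEquiv
    (GrothLib.DT.subsingleton_S_Q (A := A) i (GrothLib.RH.oneCx A) (isZero_single_obj_X _ _ _ _ hi))

theorem subsingleton_inD_shift (i : ℤ) (hi : i ≠ 0) : Subsingleton (Dual.inD A A ⟶ (Dual.inD A A)⟦i⟧) := by
  haveI := subsingleton_S_inD (A := A) i hi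
  haveI : Subsingleton ((Dual.inD A A)⟦-i⟧ ⟶ Dual.inD A A) := (sIso i).symm.homFromEquiv.subsingleton
  exact (shiftHomEquiv (Dual.inD A A) (Dual.inD A A) i).symm.subsingleton

theorem bijective_smul_inD : Function.Bijective fun a : A => a • 𝟙 (Dual.inD A A) := by
  let S := DerivedCategory.singleFunctor (ModuleCat.{u} A) 0
  have hS : ∀ a : A, S.map (a • 𝟙 (ModuleCat.of A A)) = a • 𝟙 (Dual.inD A A) := fun a => by
    rw [Functor.map_smul, CategoryTheory.Functor.map_id]
  refine ⟨fun a b h => ?_, fun t => ?_⟩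
  · have h' : S.map (a • 𝟙 (ModuleCat.of A A)) = S.map (b • 𝟙 (ModuleCat.of A A)) := by rw [hS, hS]; exact h
    have h1 := ConcreteCategory.congr_hom (S.map_injective h') (1 : A)
    change a • (1 : A) = b • (1 : A) at h1
    simpa using h1
  · obtain ⟨f, rfl⟩ := S.map_surjective t
    refine ⟨(f.hom (1 : A) : A), (hS _).symm.trans (congrArg S.map ?_)⟩
    refine ModuleCat.hom_ext (LinearMap.ext_ring ?_)
    change (f.hom (1 : A) : A) • (1 : A) = f.hom (1 : A)
    simp

theorem subsingleton_S_of_shift {X : Dual.D A} (i : ℤ) (h : Subsingleton (Dual.inD A A ⟶ X⟦i⟧)) :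
    Subsingleton (GrothLib.DT.S A i ⟶ X) := by
  haveI : Subsingleton ((Dual.inD A A)⟦-i⟧ ⟶ X) := (shiftHomEquiv (Dual.inD A A) X i).subsingleton
  exact (sIso i).homFromEquiv.subsingleton

/-- A generator of a free object of rank one. -/
theorem isIso_of_generator {X : Dual.D A} (g : Dual.inD A A ⟶ X) (hb : Function.Bijective fun a : A => a • g)
    (hne : ∀ i : ℤ, i ≠ 0 → Subsingleton (Dual.inD A A ⟶ X⟦i⟧)) : IsIso g := by
  refine GrothLib.DT.isIso_of_bijective_S g fun i => ?_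
  by_cases hi : i = 0
  · subst hi
    let ε : GrothLib.DT.S A 0 ≅ Dual.inD A A :=
      sIso 0 ≪≫ (shiftFunctorZero' (Dual.D A) (-0 : ℤ) (by omega)).app _
    have h : (fun t : GrothLib.DT.S A 0 ⟶ Dual.inD A A => t ≫ g) =
        ε.symm.homFromEquiv ∘ (fun t : Dual.inD A A ⟶ Dual.inD A A => t ≫ g) ∘ ε.homFromEquiv := by
      funext t
      change t ≫ g = ε.hom ≫ (ε.inv ≫ t) ≫ g
      rw [Category.assoc, Iso.hom_inv_id_assoc]
    have hg : Function.Bijective fun t : Dual.inD A A ⟶ Dual.inD A A => t ≫ g := by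
      have h2 : (fun t : Dual.inD A A ⟶ Dual.inD A A => t ≫ g) ∘ (fun a : A => a • 𝟙 (Dual.inD A A)) =
          fun a : A => a • g := funext fun a => by simp
      exact (Function.Bijective.of_comp_iff _ bijective_smul_inD).1 (h2 ▸ hb)
    rw [h]
    exact ε.symm.homFromEquiv.bijective.comp (hg.comp ε.homFromEquiv.bijective)
  · haveI := subsingleton_S_inD (A := A) i hi
    haveI := subsingleton_S_of_shift i (hne i hi)
    exact ⟨fun x y _ => Subsingleton.elim x y, fun y => ⟨0, Subsingleton.elim _ _⟩⟩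

/-- Homomorphisms out of an object with the same endomorphisms as a cone. -/
theorem subsingleton_cone {X : Dual.D A} (T : Triangle (Dual.D A)) (hT : T ∈ distTriang _) (e : X ≅ T.obj₁)
    (hne : ∀ i : ℤ, i ≠ 0 → Subsingleton (X ⟶ X⟦i⟧))
    (hs : Function.Surjective fun a : A => a • 𝟙 X)
    (hb : Function.Bijective fun a : A => a • (e.hom ≫ T.mor₁))
    (h₂ : ∀ i : ℤ, i ≠ 0 → Subsingleton (X ⟶ T.obj₂⟦i⟧)) (i : ℤ) : Subsingleton (X ⟶ T.obj₃⟦i⟧) := by
  haveI hE : ∀ j : ℤ, j ≠ 0 → Subsingleton (X ⟶ T.obj₁⟦j⟧) := fun j hj =>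
    haveI := hne j hj
    ((shiftFunctor (Dual.D A) j).mapIso e).homToEquiv.symm.subsingleton
  by_cases hi : i = -1
  · subst hi
    let T' := T.invRotate
    have hT' : T' ∈ distTriang _ := inv_rot_of_distTriang _ hT
    let T'' := T'.invRotate
    have hT'' : T'' ∈ distTriang _ := inv_rot_of_distTriang _ hT'
    refine subsingleton_of_forall_eq 0 fun t => ?_
    let r : X ⟶ T.obj₁ := (t : X ⟶ T'.obj₁) ≫ T'.mor₁
    have hr : r ≫ T.mor₁ = 0 := (Category.assoc _ _ _).trans
      ((congrArg ((t : X ⟶ T'.obj₁) ≫ ·) (comp_distTriang_mor_zero₁₂ T' hT')).trans comp_zero)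
    have ht : r = 0 := by
      obtain ⟨a, ha⟩ := hs (r ≫ e.inv)
      have h0 : a • (e.hom ≫ T.mor₁) = 0 := by
        rw [← hr]
        have h1 : (a • 𝟙 X) ≫ e.hom ≫ T.mor₁ = (r ≫ e.inv) ≫ e.hom ≫ T.mor₁ := congrArg (· ≫ e.hom ≫ T.mor₁) ha
        rw [Linear.smul_comp, Category.id_comp, Category.assoc, Iso.inv_hom_id_assoc] at h1
        exact h1
      have ha0 : a = 0 := hb.1 (h0.trans (zero_smul A _).symm)
      rw [ha0] at ha
      have h3 : r ≫ e.inv = 0 := ha.symm.trans (zero_smul A _)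
      exact zero_of_comp_mono e.inv h3
    obtain ⟨s, hs'⟩ := Triangle.coyoneda_exact₂ T'' hT'' (t : X ⟶ T''.obj₂) ht
    exact hs'.trans ((congrArg (· ≫ T''.mor₁) ((h₂ (-1) (by omega)).elim (s : X ⟶ T.obj₂⟦(-1 : ℤ)⟧) 0)).trans zero_comp)
  by_cases hi0 : i = 0
  · subst hi0
    suffices h : Subsingleton (X ⟶ T.obj₃) from
      @Equiv.subsingleton _ _ ((shiftFunctorZero (Dual.D A) ℤ).app T.obj₃).homToEquiv h
    refine subsingleton_of_forall_eq 0 fun t => ?_
    obtain ⟨s, hs'⟩ := Triangle.coyoneda_exact₃ T hT t ((hE 1 (by omega)).elim _ _)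
    obtain ⟨a, ha⟩ := hb.2 s
    rw [hs', ← ha, Linear.smul_comp, Category.assoc, comp_distTriang_mor_zero₁₂ T hT, comp_zero, smul_zero]
  let Ti := (Triangle.shiftFunctor (Dual.D A) i).obj T
  have hTi : Ti ∈ distTriang _ := Triangle.shift_distinguished T hT i
  refine subsingleton_of_forall_eq 0 fun t => ?_
  haveI : Subsingleton (X ⟶ (T.obj₁⟦i⟧)⟦(1 : ℤ)⟧) :=
    haveI := hE (i + 1) (by omega)
    ((shiftFunctorAdd' (Dual.D A) i 1 (i + 1) rfl).app T.obj₁).homToEquiv.symm.subsingleton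
  obtain ⟨s, hs'⟩ := Triangle.coyoneda_exact₃ Ti hTi (t : X ⟶ Ti.obj₃) (Subsingleton.elim (α := X ⟶ (T.obj₁⟦i⟧)⟦(1 : ℤ)⟧) _ _)
  exact hs'.trans ((congrArg (· ≫ Ti.mor₂) ((h₂ i hi0).elim (s : X ⟶ T.obj₂⟦i⟧) 0)).trans zero_comp)

theorem termwiseFiniteFree_cone {E F : DRing.Cx A} (φ : E ⟶ F) (hE : DRing.TermwiseFiniteFree E)
    (hF : DRing.TermwiseFiniteFree F) : DRing.TermwiseFiniteFree (CochainComplex.mappingCone φ) := fun i => by
  haveI := (hE (i + 1)).1
  haveI := (hE (i + 1)).2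
  haveI := (hF i).1
  haveI := (hF i).2
  let e : (CochainComplex.mappingCone φ).X i ≅ ModuleCat.of A (E.X (i + 1) × F.X i) :=
    HomologicalComplex.homotopyCofiber.XIsoBiprod φ i (i + 1) rfl ≪≫ ModuleCat.biprodIsoProd _ _
  exact ⟨Module.Finite.equiv e.toLinearEquiv.symm, Module.Free.of_equiv e.toLinearEquiv.symm⟩

theorem vanishesAbove_cone {E F : DRing.Cx A} (φ : E ⟶ F) (a b : ℤ) (hE : DRing.VanishesAbove E a)
    (hF : DRing.VanishesAbove F b) : DRing.VanishesAbove (CochainComplex.mappingCone φ) (max a b) := fun i hi => by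
  haveI := ModuleCat.subsingleton_of_isZero (hE (i + 1) (by omega))
  haveI := ModuleCat.subsingleton_of_isZero (hF i (by omega))
  exact (ModuleCat.isZero_of_subsingleton (ModuleCat.of A (E.X (i + 1) × F.X i))).of_iso
    (HomologicalComplex.homotopyCofiber.XIsoBiprod φ i (i + 1) rfl ≪≫ ModuleCat.biprodIsoProd _ _)

theorem termwiseFiniteFree_shift {F : DRing.Cx A} (hF : DRing.TermwiseFiniteFree F) (i : ℤ) :
    DRing.TermwiseFiniteFree (F⟦i⟧) := fun j => hF (j + i)

theorem vanishesAbove_shift {F : DRing.Cx A} {b : ℤ} (hF : DRing.VanishesAbove F b) (i : ℤ) :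
    DRing.VanishesAbove (F⟦i⟧) (b - i) := fun j hj => hF (j + i) (by omega)

end One

variable {R A : Type u} [CommRing R] [CommRing A] [Algebra R A] [Module.Flat R A] [Algebra.FinitePresentation R A]
  {n : ℕ} (ψ : MvPolynomial (Fin n) R →ₐ[R] A) (hψ : Function.Surjective ψ)
  [DRing.HasLBaseChange (algebraMap A (A ⊗[R] A))]

/-- `RHom(A, K ⊗ (A ⊗ A))` on the diagonal. -/
noncomputable abbrev diag (R : Type u) {A : Type u} [CommRing R] [CommRing A] [Algebra R A]
    [DRing.HasLBaseChange (algebraMap A (A ⊗[R] A))] (K : Dual.D A) : Dual.D A :=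
  (RA (mu R A)).obj ((DRing.LBaseChange (algebraMap A (A ⊗[R] A))).obj K)

omit [Module.Flat R A] [Algebra.FinitePresentation R A] in
theorem nonempty_diag_shift (F : DRing.Cx A) (hF : GrothLib.KF.IsKFlat F) (i : ℤ) :
    Nonempty (diag R (DRing.toD (F⟦i⟧)) ≅ (diag R (DRing.toD F))⟦i⟧) := by
  let l := algebraMap A (A ⊗[R] A)
  obtain ⟨e1⟩ := GrothLib.KF.lBase_value l (GrothLib.KF.isKFlat_shift hF i)
  obtain ⟨e2⟩ := GrothLib.KF.lBase_value l hF
  obtain ⟨es⟩ := nonempty_RA_shift (mu R A) (DRing.toD ((DR.bc l).obj F)) i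
  exact ⟨(RA (mu R A)).mapIso (e1 ≪≫ DerivedCategory.Q.mapIso
      (((ModuleCat.extendScalars.{u, u, u} l).mapHomologicalComplex (ComplexShape.up ℤ)).commShiftIso i |>.app F) ≪≫
      ((DerivedCategory.Q (C := ModuleCat.{u} (A ⊗[R] A))).commShiftIso i).app _) ≪≫ es ≪≫
    (shiftFunctor (Dual.D A) i).mapIso ((RA (mu R A)).mapIso e2.symm)⟩

omit [DRing.HasLBaseChange (algebraMap A (A ⊗[R] A))] in
include hψ in
/-- A free representative of the relative dualizing complex. -/
theorem exists_rep : ∃ (E : DRing.Cx A) (b : ℤ), DRing.TermwiseFiniteFree E ∧ DRing.VanishesAbove E b ∧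
    E.IsKProjective ∧ Nonempty (DRing.toD E ≅ GP ψ (Dual.inD R R)) := by
  obtain ⟨E, b, hb, hE, he⟩ := (isRelPerfect_GP ψ hψ).1
  exact ⟨E, b, hE, hb, DR.isKProjective E b hb (fun i => by haveI := (hE i).2; infer_instance), he⟩

include hψ in
/-- **The diagonal takes the relative dualizing complex to the algebra.** -/
theorem nonempty_diag_GP : Nonempty (diag R (GP ψ (Dual.inD R R)) ≅ Dual.inD A A) := by
  obtain ⟨E, bE, hE, hbE, hEp, ⟨eE⟩⟩ := exists_rep ψ hψ
  obtain ⟨hs, hne⟩ := simple_GP ψ hψ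
  have hEk : GrothLib.KF.IsKFlat E := GrothLib.KF.isKFlat_of_vanishesAbove (b := bE) hbE fun i => by
    haveI := (hE i).2
    infer_instance
  obtain ⟨e, he⟩ := exists_phi ψ hψ E hE bE hbE eE E hE bE hbE
  have hs' : Function.Bijective fun a : A => a • 𝟙 (DRing.toD E) := by
    have h : (fun a : A => a • 𝟙 (DRing.toD E)) =
        (Linear.homCongr A eE.symm eE.symm) ∘ fun a => a • 𝟙 (GP ψ (Dual.inD R R)) := by
      funext a
      simp [Linear.homCongr_apply]
    rw [h]
    exact (Linear.homCongr A eE.symm eE.symm).bijective.comp hs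
  let g := e.symm (𝟙 (DRing.toD E))
  have hg : Function.Bijective fun a : A => a • g := by
    have h : (fun a : A => a • g) = e.symm ∘ fun a => a • 𝟙 (DRing.toD E) := by
      funext a
      apply e.injective
      change e (a • g) = e (e.symm (a • 𝟙 (DRing.toD E)))
      exact ((he a g).trans (congrArg (a • ·) (e.apply_symm_apply _))).trans (e.apply_symm_apply _).symm
    rw [h]
    exact e.symm.bijective.comp hs'
  haveI : IsIso g := isIso_of_generator g hg fun i hi => by
    obtain ⟨e', -⟩ := exists_phi ψ hψ E hE bE hbE eE (E⟦i⟧) (termwiseFiniteFree_shift hE i) (bE - i)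
      (vanishesAbove_shift hbE i)
    haveI := hne i hi
    haveI : Subsingleton (DRing.toD E ⟶ DRing.toD (E⟦i⟧)) :=
      (eE.homCongr (((DerivedCategory.Q (C := ModuleCat.{u} A)).commShiftIso i).app E ≪≫
        (shiftFunctor (Dual.D A) i).mapIso eE)).subsingleton
    obtain ⟨es⟩ := nonempty_diag_shift (R := R) E hEk i
    haveI := e'.subsingleton
    exact es.homToEquiv.symm.subsingleton
  exact ⟨(RA (mu R A)).mapIso ((DRing.LBaseChange (algebraMap A (A ⊗[R] A))).mapIso eE.symm) ≪≫ (asIso g).symm⟩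

include hψ in
/-- **Uniqueness.** -/
theorem nonempty_iso_GP {K : Dual.D A} (hpc : DRing.IsPseudoCoherent' A K) (h : Nonempty (diag R K ≅ Dual.inD A A)) :
    Nonempty (K ≅ GP ψ (Dual.inD R R)) := by
  obtain ⟨E, bE, hE, hbE, hEp, ⟨eE⟩⟩ := exists_rep ψ hψ
  obtain ⟨F, bF, hbF, hF, ⟨eF⟩⟩ := hpc
  obtain ⟨iK⟩ := h
  let iF : diag R (DRing.toD F) ≅ Dual.inD A A :=
    (RA (mu R A)).mapIso ((DRing.LBaseChange (algebraMap A (A ⊗[R] A))).mapIso eF) ≪≫ iK
  have flat : ∀ {X : DRing.Cx A} {c : ℤ}, DRing.TermwiseFiniteFree X → DRing.VanishesAbove X c →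
      GrothLib.KF.IsKFlat X := fun {X c} hX hc =>
    GrothLib.KF.isKFlat_of_vanishesAbove (b := c) hc fun i => by
      haveI := (hX i).2
      infer_instance
  obtain ⟨hs, hne⟩ := simple_GP ψ hψ
  obtain ⟨e, he⟩ := exists_phi ψ hψ E hE bE hbE eE F hF bF hbF
  let f := e iF.inv
  have hf : Function.Bijective fun a : A => a • f := by
    have h : (fun a : A => a • f) = e ∘ (fun t => t ≫ iF.inv) ∘ fun a : A => a • 𝟙 (Dual.inD A A) := by
      funext a
      refine (he a iF.inv).symm.trans (congrArg e ?_)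
      change a • iF.inv = (a • 𝟙 (Dual.inD A A)) ≫ iF.inv
      rw [Linear.smul_comp, Category.id_comp]
    rw [h]
    exact e.bijective.comp (iF.symm.homToEquiv.bijective.comp bijective_smul_inD)
  have h₂ : ∀ i : ℤ, i ≠ 0 → Subsingleton (DRing.toD E ⟶ (DRing.toD F)⟦i⟧) := fun i hi => by
    obtain ⟨e', -⟩ := exists_phi ψ hψ E hE bE hbE eE (F⟦i⟧) (termwiseFiniteFree_shift hF i) (bF - i)
      (vanishesAbove_shift hbF i)
    haveI := subsingleton_inD_shift (A := A) i hi
    obtain ⟨es⟩ := nonempty_diag_shift (R := R) F (flat hF hbF) i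
    haveI : Subsingleton (Dual.inD A A ⟶ diag R (DRing.toD (F⟦i⟧))) :=
      (es ≪≫ (shiftFunctor (Dual.D A) i).mapIso iF).homToEquiv.subsingleton
    exact @Equiv.subsingleton _ _ (((DerivedCategory.Q (C := ModuleCat.{u} A)).commShiftIso i).app F).homToEquiv.symm
      e'.symm.subsingleton
  obtain ⟨φ, hφ⟩ := DR.exists_lift E (L := F) f
  let C := CochainComplex.mappingCone φ
  have hC := termwiseFiniteFree_cone φ hE hF
  have hbC := vanishesAbove_cone φ bE bF hbE hbF
  let T := DerivedCategory.Q.mapTriangle.obj (CochainComplex.mappingCone.triangle φ)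
  have hT : T ∈ distTriang _ := (DerivedCategory.mem_distTriang_iff _).2 ⟨E, F, φ, ⟨Iso.refl _⟩⟩
  have hC0 : ∀ i : ℤ, Subsingleton (DRing.toD E ⟶ (DRing.toD C)⟦i⟧) := by
    refine subsingleton_cone (X := DRing.toD E) T hT (Iso.refl _) (fun i hi => ?_) ?_ ?_ h₂
    · haveI := hne i hi
      exact (eE.homCongr ((shiftFunctor (Dual.D A) i).mapIso eE)).subsingleton
    · intro t
      obtain ⟨a, ha⟩ := hs.2 (Linear.homCongr A eE eE t)
      refine ⟨a, (Linear.homCongr A eE eE).injective ?_⟩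
      rw [map_smul, ← ha]
      simp [Linear.homCongr_apply]
    · have h : (fun a : A => a • ((Iso.refl (DRing.toD E)).hom ≫ T.mor₁)) = fun a => a • f := by
        funext a
        refine congrArg (a • ·) ?_
        exact (Category.id_comp _).trans hφ
      exact h ▸ hf
  have hCk := flat hC hbC
  let Z := (DR.bc (algebraMap A (A ⊗[R] A))).obj C
  obtain ⟨eZ⟩ := GrothLib.KF.lBase_value (algebraMap A (A ⊗[R] A)) hCk
  have hdz : IsZero (diag R (DRing.toD C)) := GrothLib.DT.isZero_of_subsingleton fun i => by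
    refine subsingleton_S_of_shift i ?_
    obtain ⟨e', -⟩ := exists_phi ψ hψ E hE bE hbE eE (C⟦i⟧) (termwiseFiniteFree_shift hC i) (max bE bF - i)
      (vanishesAbove_shift hbC i)
    haveI := hC0 i
    haveI : Subsingleton (DRing.toD E ⟶ DRing.toD (C⟦i⟧)) :=
      @Equiv.subsingleton _ _ (((DerivedCategory.Q (C := ModuleCat.{u} A)).commShiftIso i).app C).homToEquiv (hC0 i)
    haveI := e'.subsingleton
    obtain ⟨es⟩ := nonempty_diag_shift (R := R) C hCk i
    exact es.homToEquiv.symm.subsingleton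
  have hZ : IsZero ((RA (mu R A)).obj (DRing.toD Z)) := hdz.of_iso ((RA (mu R A)).mapIso eZ.symm)
  have horth : ∀ M : Dual.D A, Orth (DRing.toD Z) ((DRing.restrictD (mu R A)).obj M) := fun M i => by
    obtain ⟨es⟩ := nonempty_RA_shift (mu R A) (DRing.toD Z) i
    haveI : Subsingleton (M ⟶ (RA (mu R A)).obj ((DRing.toD Z)⟦i⟧)) :=
      ⟨fun x y => ((Functor.map_isZero (shiftFunctor (Dual.D A) i) hZ).of_iso es).eq_of_tgt x y⟩
    exact ((radj (mu R A)).homEquiv M ((DRing.toD Z)⟦i⟧)).subsingleton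
  have hmu : mu R A = (Algebra.TensorProduct.lmul'' R (S := A)).toRingHom := RingHom.ext fun z => by
    induction z with
    | zero => simp
    | tmul x y => rfl
    | add x y hx hy => rw [map_add, map_add, hx, hy]
  have hker : (RingHom.ker (mu R A)).FG := by
    rw [hmu]
    exact Algebra.FinitePresentation.ker_fG_of_surjective (Algebra.TensorProduct.lmul'' R (S := A)) fun a =>
      ⟨a ⊗ₜ 1, (RingHom.congr_fun hmu (a ⊗ₜ[R] (1 : A))).symm.trans (by simp [mu])⟩
  have hac := acyclic_of_retraction (mu R A) (algebraMap A (A ⊗[R] A)) mu_comp_left hker Z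
    (GrothLib.KF.isKFlat_baseChange _ C hCk) horth
  haveI : QuasiIso φ := (GrothLib.DerCat.quasiIso_iff_acyclic_mappingCone φ).2
    (GrothLib.DerCat.acyclic_of_iso (bcRetract _ _ mu_comp_left C) hac)
  haveI := GrothLib.RH.quasiIso_Q φ
  exact ⟨eF.symm ≪≫ (asIso (DerivedCategory.Q.map φ)).symm ≪≫ eE⟩

end GrothLib.RelDual22
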