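import Groth.Agent.Lib.RelDual22.Gen
import Mathlib.Algebra.MvPolynomial.Equiv

/-! # The upper shriek of a composite -/

set_option autoImplicit false
set_option linter.style.haveILetI false
set_option maxHeartbeats 800000
universe u

open CategoryTheory CategoryTheory.Limits HomologicalComplex GrothLib.DualCx22
open scoped TensorProduct

attribute [local instance] HasDerivedCategory.standard
attribute [local instance] GrothLib.DualRing.Shriek.pfl_of_flat

namespace GrothLib.RelDual22

open GrothLib GrothLib.DualRing GrothLib.DualRing.Shriek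

/-- Extension of scalars along an isomorphism preserves finite limits. -/
theorem pfl_of_ringEquiv {P Q : Type u} [CommRing P] [CommRing Q] (e : P ≃+* Q) :
    PreservesFiniteLimits (ModuleCat.extendScalars.{u, u, u} e.toRingHom) := by
  refine GrothLib.DR.preservesFiniteLimits_extendScalars e.toRingHom ?_
  exact RingHom.Flat.of_bijective e.bijective

/-- A free module is tor independent of everything. -/
theorem subsingleton_tor_of_free {P : Type u} [CommRing P] (M : Type u) [AddCommGroup M] [Module P M]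
    (N : Type u) [AddCommGroup N] [Module P N] [Module.Free P N] (p : ℕ) (hp : 1 ≤ p) :
    Subsingleton (DRing.Tor P p M N) := by
  obtain ⟨q, rfl⟩ : ∃ q, p = q + 1 := ⟨p - 1, by omega⟩
  haveI : CategoryTheory.Projective (ModuleCat.of P N) := inferInstance
  exact ModuleCat.subsingleton_of_isZero
    (Functor.isZero_leftDerived_obj_projective_succ (MonoidalCategory.tensorLeft (ModuleCat.of P M)) q
      (ModuleCat.of P N))

theorem subsingleton_tor_of_free_alg {P A P' : Type u} [CommRing P] [CommRing A] [CommRing P'] (φ : P →+* A)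
    (f : P →+* P') (hf : letI := f.toAlgebra; Module.Free P P') :
    letI := φ.toAlgebra; letI := f.toAlgebra; ∀ p : ℕ, 1 ≤ p → Subsingleton (DRing.Tor P p A P') := by
  letI := φ.toAlgebra
  letI := f.toAlgebra
  haveI := hf
  exact fun p hp => subsingleton_tor_of_free A P' p hp

/-- Polynomial rings are base changed along a ring map. -/
theorem isPushoutHom_map {P A : Type u} [CommRing P] [CommRing A] (φ : P →+* A) (m : ℕ)
    (h : (algebraMap A (MvPolynomial (Fin m) A)).comp φ =
      (MvPolynomial.map φ).comp (algebraMap P (MvPolynomial (Fin m) P))) :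
    DR.IsPushoutHom φ (algebraMap P (MvPolynomial (Fin m) P)) (algebraMap A (MvPolynomial (Fin m) A))
      (MvPolynomial.map φ) h := by
  letI : Algebra P A := φ.toAlgebra
  letI := MvPolynomial.algebraMvPolynomial (σ := Fin m) (R := P) (S := A)
  haveI : IsScalarTower P (MvPolynomial (Fin m) P) (MvPolynomial (Fin m) A) :=
    IsScalarTower.of_algebraMap_eq fun p => (MvPolynomial.map_C φ p).symm
  have key := Algebra.IsPushout.symm
    (inferInstance : Algebra.IsPushout P A (MvPolynomial (Fin m) P) (MvPolynomial (Fin m) A))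
  unfold DR.IsPushoutHom
  have h1 : (algebraMap P (MvPolynomial (Fin m) P)).toAlgebra = (inferInstance : Algebra P (MvPolynomial (Fin m) P)) :=
    Algebra.algebra_ext _ _ fun _ => rfl
  have h2 : (algebraMap A (MvPolynomial (Fin m) A)).toAlgebra = (inferInstance : Algebra A (MvPolynomial (Fin m) A)) :=
    Algebra.algebra_ext _ _ fun _ => rfl
  have h3 : ((algebraMap A (MvPolynomial (Fin m) A)).comp φ).toAlgebra =
      (inferInstance : Algebra P (MvPolynomial (Fin m) A)) := Algebra.algebra_ext _ _ fun _ => rfl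
  have h4 : (MvPolynomial.map (σ := Fin m) φ).toAlgebra =
      MvPolynomial.algebraMvPolynomial (σ := Fin m) (R := P) (S := A) := Algebra.algebra_ext _ _ fun _ => rfl
  convert key using 1
  all_goals first | rfl | assumption

/-- **The upper shriek of a composite.** -/
theorem exists_GP_comp {R A B : Type u} [CommRing R] [CommRing A] [CommRing B] [Algebra R A] [Algebra A B]
    [Algebra R B] [IsScalarTower R A B] [Module.Flat R A] [Algebra.FinitePresentation R A]
    {n m : ℕ} (ψA : MvPolynomial (Fin n) R →ₐ[R] A) (hψA : Function.Surjective ψA)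
    (ψB : MvPolynomial (Fin m) A →ₐ[A] B) (hψB : Function.Surjective ψB) :
    ∃ (χ : MvPolynomial (Fin (m + n)) R →ₐ[R] B), Function.Surjective χ ∧
      Nonempty (GP χ (Dual.inD R R) ≅ GP ψB (GP ψA (Dual.inD R R))) := by
  let P := MvPolynomial (Fin n) R
  let P' := MvPolynomial (Fin m) P
  let Q := MvPolynomial (Fin m) A
  let φA : P →+* A := ψA.toRingHom
  let ρ : P' →+* Q := MvPolynomial.map φA
  let χ0 : P' →+* B := ψB.toRingHom.comp ρ
  let e : P' ≃ₐ[R] MvPolynomial (Fin (m + n)) R :=
    (MvPolynomial.sumAlgEquiv R (Fin m) (Fin n)).symm.trans (MvPolynomial.renameEquiv R finSumFinEquiv)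
  let χ0' : P' →ₐ[R] B := (ψB.restrictScalars R).comp (MvPolynomial.mapAlgHom ψA)
  have hχ0 : χ0'.toRingHom = χ0 := rfl
  let χ : MvPolynomial (Fin (m + n)) R →ₐ[R] B := χ0'.comp e.symm.toAlgHom
  have hsurj : Function.Surjective χ :=
    (hψB.comp (MvPolynomial.map_surjective φA hψA)).comp e.symm.surjective
  refine ⟨χ, hsurj, ?_⟩
  haveI := pfl_of_ringEquiv e.toRingEquiv
  obtain ⟨e1⟩ := nonempty_G_iso (A := B) (algebraMap R P') e.toRingEquiv (algebraMap R (MvPolynomial (Fin (m + n)) R))
    (RingHom.ext fun r => (e.commutes r).symm) χ0 χ.toRingHom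
    (RingHom.ext fun x => by
      change χ0' (e.symm (e x)) = χ0 x
      rw [e.symm_apply_apply]
      rfl) ((m + n : ℕ) : ℤ) (Dual.inD R R)
  -- base change along the new variables
  letI algA : Algebra P A := φA.toAlgebra
  obtain ⟨E, a, b, ε, hE, hab, hε⟩ := exists_eps φA (PHom.isPerfectModule_pres PHom.isPerfectHom_of_flat ψA hψA)
  haveI := hε
  obtain ⟨W, hWK, -, ⟨eW⟩⟩ := GrothLib.KF.exists_kflat_rep ((RA φA).obj (Dual.inD P P))
  have hcomp : (algebraMap A Q).comp φA = ρ.comp (algebraMap P P') :=
    RingHom.ext fun p => (MvPolynomial.map_C φA p).symm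
  have hpo := isPushoutHom_map φA m hcomp
  have h5 : (algebraMap P P').toAlgebra = (inferInstance : Algebra P P') := Algebra.algebra_ext _ _ fun _ => rfl
  have hfree : @Module.Free P P' _ _ (algebraMap P P').toAlgebra.toModule := by
    rw [h5]
    exact inferInstanceAs (Module.Free P (MvPolynomial (Fin m) P))
  have hT := subsingleton_tor_of_free_alg φA (algebraMap P P') hfree
  obtain ⟨eW'⟩ := Act.nonempty_RA_bc hcomp hpo hT hE hab ε W hWK eW
  obtain ⟨eP⟩ := nonempty_bcD_self (R := R) (P := P)
  obtain ⟨eP'⟩ := nonempty_bcD_self (R := R) (P := P')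
  let X := (RA φA).obj (Dual.inD P P)
  let eX : (RA ρ).obj (Dual.inD P' P') ≅ (extD (algebraMap A Q)).obj X :=
    eW' ≪≫ ((ModuleCat.extendScalars.{u, u, u} (algebraMap A Q)).mapDerivedCategoryFactors.app W).symm ≪≫
      (extD (algebraMap A Q)).mapIso eW
  obtain ⟨es⟩ := nonempty_RA_shift ψB.toRingHom ((extD (algebraMap A Q)).obj X) (n : ℤ)
  exact ⟨e1 ≪≫ (shiftFunctor (Dual.D B) (((m + n : ℕ) : ℤ))).mapIso ((RA χ0).mapIso eP' ≪≫
      ((raTrans χ0 ψB.toRingHom ρ rfl).app _).symm ≪≫ (RA ψB.toRingHom).mapIso eX) ≪≫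
    (shiftFunctorAdd' (Dual.D B) (n : ℤ) (m : ℤ) _ (by push_cast; omega)).app _ ≪≫
    (shiftFunctor (Dual.D B) (m : ℤ)).mapIso (es.symm ≪≫ (RA ψB.toRingHom).mapIso
      ((((extD (algebraMap A Q)).commShiftIso (n : ℤ)).app X).symm ≪≫
        (extD (algebraMap A Q)).mapIso ((shiftFunctor (Dual.D A) (n : ℤ)).mapIso ((RA φA).mapIso eP.symm))))⟩

end GrothLib.RelDual22
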