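import Groth.Agent.Lib.RelDual22.Eta

/-! # Cohomology of the internal Hom out of a complex of projective modules with simple class -/

set_option autoImplicit false
set_option linter.style.haveILetI false
set_option maxHeartbeats 800000
universe u

open CategoryTheory CategoryTheory.Limits MonoidalCategory CochainComplex.HomComplex HomologicalComplex
open GrothLib.RH (tens ιT oneCx)
open scoped TensorProduct

attribute [local instance] HasDerivedCategory.standard

namespace GrothLib.RelDual22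

open GrothLib.DualRing.Act (tensMap oneVal lam lamHom_ι)

variable {A : Type u} [CommRing A]

theorem exists_HD_homCx_equiv' (W : DRing.Cx A) [W.IsKProjective] (L : DRing.Cx A) (n : ℤ) :
    Nonempty (Dual.HD A (DRing.toD (DRing.homCx W L)) n ≃ₗ[A] (DRing.toD W ⟶ (DRing.toD L)⟦n⟧)) := by
  obtain ⟨I, i, hi, hI⟩ := GrothLib.RH.exists_resolution L
  haveI := GrothLib.RH.quasiIso_Q i
  haveI := GrothLib.RH.quasiIso_homCxMap_of_isKProjective W i
  haveI := GrothLib.RH.quasiIso_Q (DRing.homCxMap W i)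
  obtain ⟨e⟩ := GrothLib.DualRing.exists_HD_homCx_equiv W I n
  exact ⟨((DerivedCategory.homologyFunctor (ModuleCat.{u} A) n).mapIso
    (asIso (DerivedCategory.Q.map (DRing.homCxMap W i)))).toLinearEquiv ≪≫ₗ e ≪≫ₗ
    Linear.homCongr A (Iso.refl _) ((shiftFunctor (Dual.D A) n).mapIso (asIso (DerivedCategory.Q.map i)).symm)⟩

theorem isZero_homology_homCx (W : DRing.Cx A) [W.IsKProjective] (L : DRing.Cx A) (n : ℤ)
    (h : Subsingleton (DRing.toD W ⟶ (DRing.toD L)⟦n⟧)) : IsZero ((DRing.homCx W L).homology n) := by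
  obtain ⟨e⟩ := exists_HD_homCx_equiv' W L n
  exact ((GrothLib.DR.subsingleton_iff_isZero _).1 e.toEquiv.subsingleton).of_iso
    ((DerivedCategory.homologyFunctorFactors (ModuleCat.{u} A) n).app _).symm

/-- A perfect object sees nothing far to the left. -/
theorem exists_bound_perfect {X : Dual.D A} (hX : DRing.IsPerfect A X) :
    ∃ a : ℤ, ∀ (C : DRing.Cx A), (∀ i, a ≤ i → IsZero (C.X i)) → Subsingleton (X ⟶ DRing.toD C) := by
  obtain ⟨E, a, b, hv, hE, ⟨e⟩⟩ := hX
  haveI : E.IsKProjective := DR.isKProjective E b (fun i hi => hv i (Or.inr hi)) (fun i => (hE i).2)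
  refine ⟨a, fun C hC => subsingleton_of_forall_eq 0 fun g => ?_⟩
  obtain ⟨f, hf⟩ := DR.exists_lift E (L := C) (e.hom ≫ g)
  have h0 : f = 0 := HomologicalComplex.hom_ext _ _ fun i => by
    by_cases hi : i < a
    · exact (hv i (Or.inl hi)).eq_of_src _ _
    · exact (hC i (by omega)).eq_of_tgt _ _
  rw [h0, Functor.map_zero] at hf
  rw [← cancel_epi e.hom, ← hf, comp_zero]

/-- A criterion for a quasi-isomorphism on elements. -/
theorem quasiIsoAt_of_elements {K L : DRing.Cx A} (f : K ⟶ L) (n : ℤ)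
    (hs : ∀ y : L.X n, L.d n (n + 1) y = 0 →
      ∃ x : K.X n, K.d n (n + 1) x = 0 ∧ ∃ b : L.X (n - 1), L.d (n - 1) n b = f.f n x - y)
    (hi : ∀ x : K.X n, K.d n (n + 1) x = 0 → ∀ w : L.X (n - 1), L.d (n - 1) n w = f.f n x →
      ∃ a : K.X (n - 1), K.d (n - 1) n a = x) : QuasiIsoAt f n := by
  rw [quasiIsoAt_iff' f (n - 1) n (n + 1) (by simp) (by simp),
    ShortComplex.LeftHomologyMapData.quasiIso_iff
      (γ := (default : ShortComplex.LeftHomologyMapData
        ((HomologicalComplex.shortComplexFunctor' _ (ComplexShape.up ℤ) (n - 1) n (n + 1)).map f)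
        (ShortComplex.moduleCatLeftHomologyData _) (ShortComplex.moduleCatLeftHomologyData _))),
    ConcreteCategory.isIso_iff_bijective]
  let γ : ShortComplex.LeftHomologyMapData
        ((HomologicalComplex.shortComplexFunctor' _ (ComplexShape.up ℤ) (n - 1) n (n + 1)).map f)
        (ShortComplex.moduleCatLeftHomologyData _) (ShortComplex.moduleCatLeftHomologyData _) := default
  have hK : ∀ x, ((γ.φK x).1 : L.X n) = f.f n x.1 := fun x => ConcreteCategory.congr_hom γ.commi x
  refine ⟨(injective_iff_map_eq_zero _).2 fun c hc => ?_, fun c => ?_⟩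
  · obtain ⟨⟨x, hx⟩, rfl⟩ := Submodule.Quotient.mk_surjective _ c
    obtain ⟨w, hw⟩ := (Submodule.Quotient.mk_eq_zero _).1 ((ConcreteCategory.congr_hom γ.commπ ⟨x, hx⟩).trans hc)
    obtain ⟨a, ha⟩ := hi x hx w ((congrArg Subtype.val hw).trans (hK ⟨x, hx⟩))
    exact (Submodule.Quotient.mk_eq_zero _).2 ⟨a, Subtype.ext ha⟩
  · obtain ⟨⟨y, hy⟩, rfl⟩ := Submodule.Quotient.mk_surjective _ c
    obtain ⟨x, hx, b, hb⟩ := hs y hy
    refine ⟨Submodule.Quotient.mk ⟨x, hx⟩, (ConcreteCategory.congr_hom γ.commπ ⟨x, hx⟩).symm.trans ?_⟩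
    exact (Submodule.Quotient.eq _).2 ⟨b, Subtype.ext (hb.trans (congrArg (· - y) (hK ⟨x, hx⟩).symm))⟩

variable (W : DRing.Cx A) [W.IsKProjective]

omit [W.IsKProjective] in
theorem ofHom_smul_id (x : A) : Cochain.ofHom (x • 𝟙 W) = x • Cochain.ofHom (𝟙 W) := by
  refine Cochain.ext _ _ fun p q h => ?_
  obtain rfl : p = q := by omega
  rw [Cochain.ofHom_v, Cochain.smul_v, Cochain.ofHom_v, HomologicalComplex.smul_f_apply]

omit [W.IsKProjective] in
theorem Q_map_smul_id (x : A) : DerivedCategory.Q.map (x • 𝟙 W) = x • 𝟙 (DRing.toD W) := by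
  rw [Functor.map_smul, CategoryTheory.Functor.map_id]

/-- A simple class: the unit at the ring is a quasi-isomorphism. -/
theorem good_one (hW : GrothLib.KF.IsKFlat W) (hs : Function.Bijective fun x : A => x • 𝟙 (DRing.toD W))
    (hne : ∀ i : ℤ, i ≠ 0 → Subsingleton (DRing.toD W ⟶ (DRing.toD W)⟦i⟧)) : Good W (Dual.inD A A) := by
  refine good_of_iso W ((DerivedCategory.singleFunctorIsoCompQ (ModuleCat.{u} A) 0).app (ModuleCat.of A A)).symm
    ((good_iff W hW (oneCx A)).2 ?_)
  haveI : IsIso (lam W) := GrothLib.DualRing.Act.isIso_lam W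
  haveI : IsIso (DRing.homCxMap W (lam W)) := inferInstanceAs (IsIso ((DRing.homCxFunctor W).map (lam W)))
  let η := eta W (oneCx A) ≫ DRing.homCxMap W (lam W)
  suffices h : QuasiIso η from (quasiIso_iff_comp_right (eta W (oneCx A)) (DRing.homCxMap W (lam W))).1 h
  have key : ∀ z : (oneCx A).X 0, η.f 0 z = oneVal 0 z • Cochain.ofHom (𝟙 W) := fun z => by
    refine Cochain.ext _ _ fun r t h => ModuleCat.hom_ext (LinearMap.ext fun w => ?_)
    obtain rfl : r = t := by omega
    change (((eta W (oneCx A)).f 0 z).comp (Cochain.ofHom (lam W)) (add_zero 0)).v r r h w = _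
    rw [Cochain.comp_zero_cochain_v, Cochain.ofHom_v, Cochain.smul_v, Cochain.ofHom_v]
    refine (ConcreteCategory.comp_apply _ _ w).trans ?_
    rw [eta_v]
    exact lamHom_ι W r z w
  refine ⟨fun i => ?_⟩
  by_cases hi : i = 0
  · subst hi
    have hd : ∀ z : (oneCx A).X 0, (oneCx A).d 0 (0 + 1) z = 0 := fun z => by
      rw [HomologicalComplex.single_obj_d]; rfl
    refine quasiIsoAt_of_elements η 0 (fun (y : Cochain W W 0) hy => ?_) (fun z _ (w : Cochain W W (0 - 1)) hw => ?_)
    · let f : W ⟶ W := Cocycle.homOf (Cocycle.mk y 1 rfl hy)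
      obtain ⟨a, ha⟩ := hs.2 (DerivedCategory.Q.map f)
      obtain ⟨h⟩ := (DR.map_eq_iff (f := a • 𝟙 W) (g := f)).1 ((Q_map_smul_id W a).trans ha)
      obtain ⟨b, hb⟩ := Cochain.equivHomotopy _ _ h
      let z : (oneCx A).X 0 := (singleObjXSelf (ComplexShape.up ℤ) 0 (ModuleCat.of A A)).inv a
      have hz : oneVal 0 z = a := by
        rw [GrothLib.DualRing.Act.oneVal_zero]
        exact ConcreteCategory.congr_hom (singleObjXSelf (ComplexShape.up ℤ) 0 (ModuleCat.of A A)).inv_hom_id a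
      refine ⟨z, hd z, b, ?_⟩
      rw [key, hz]
      change δ (-1) 0 b = a • Cochain.ofHom (𝟙 W) - y
      rw [ofHom_smul_id] at hb
      rw [hb, show y = Cochain.ofHom f from (Cocycle.cochain_ofHom_homOf_eq_coe (Cocycle.mk y 1 rfl hy)).symm,
        add_sub_cancel_right]
    · rw [key] at hw
      change δ (-1) 0 w = oneVal 0 z • Cochain.ofHom (𝟙 W) at hw
      have h : DerivedCategory.Q.map (oneVal 0 z • 𝟙 W) = DerivedCategory.Q.map (0 : W ⟶ W) :=
        (DR.map_eq_iff _ _ _).2 ⟨(Cochain.equivHomotopy _ _).symm ⟨w, by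
          rw [Cochain.ofHom_zero, add_zero, ofHom_smul_id, hw]⟩⟩
      rw [Q_map_smul_id, Functor.map_zero] at h
      have h0 : oneVal 0 z = 0 := hs.1 (h.trans (zero_smul A _).symm)
      refine ⟨0, ?_⟩
      rw [map_zero]
      rw [GrothLib.DualRing.Act.oneVal_zero] at h0
      exact ((singleObjXSelf (ComplexShape.up ℤ) 0 (ModuleCat.of A A)).toLinearEquiv.injective
        (h0.trans (map_zero _).symm)).symm
  · refine (quasiIsoAt_iff_isIso_homologyMap _ i).2 ?_
    exact (GrothLib.DualCx22.isZero_homology_of_X (isZero_single_obj_X _ _ _ _ hi)).isIso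
      (isZero_homology_homCx W W i (hne i hi)) _

end GrothLib.RelDual22
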