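import Groth.Agent.Lib.RelDual22.Gen
import Groth.Agent.Lib.RelDual22.Hom
import Groth.Agent.Lib.DualRing.ShriekEnd

/-! # The unit is a quasi-isomorphism on complexes base changed from one factor of the diagonal -/

set_option autoImplicit false
set_option linter.style.haveILetI false
set_option maxHeartbeats 800000
universe u

open CategoryTheory CategoryTheory.Limits HomologicalComplex GrothLib.DualCx22
open GrothLib.RH (tens oneCx)
open scoped TensorProduct

attribute [local instance] HasDerivedCategory.standard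
attribute [local instance] GrothLib.DualRing.Shriek.pfl_of_flat

namespace GrothLib.RelDual22

open GrothLib GrothLib.DualRing GrothLib.DualRing.Shriek

/-- Base change of finite free complexes. -/
theorem termwiseFiniteFree_bc {C D : Type u} [CommRing C] [CommRing D] (g : C →+* D) {X : DRing.Cx C}
    (hX : DRing.TermwiseFiniteFree X) : DRing.TermwiseFiniteFree ((DR.bc g).obj X) := fun i => by
  letI := g.toAlgebra
  haveI := (hX i).1
  haveI := (hX i).2
  exact ⟨inferInstanceAs (Module.Finite D (D ⊗[C] X.X i)), inferInstanceAs (Module.Free D (D ⊗[C] X.X i))⟩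

/-- **Simplicity of the upper shriek of a flat algebra.** -/
theorem simple_GP {S B : Type u} [CommRing S] [CommRing B] [Algebra S B] [Module.Flat S B]
    [Algebra.FinitePresentation S B] {n : ℕ} (ψ : MvPolynomial (Fin n) S →ₐ[S] B) (hψ : Function.Surjective ψ) :
    Function.Bijective (fun a : B => a • 𝟙 (GP ψ (Dual.inD S S))) ∧
      ∀ i : ℤ, i ≠ 0 → Subsingleton (GP ψ (Dual.inD S S) ⟶ (GP ψ (Dual.inD S S))⟦i⟧) := by
  letI : Algebra (MvPolynomial (Fin n) S) B := ψ.toRingHom.toAlgebra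
  obtain ⟨E, a, b, ε, hE, hab, hε⟩ :=
    exists_eps ψ.toRingHom (PHom.isPerfectModule_pres PHom.isPerfectHom_of_flat ψ hψ)
  haveI := hε
  obtain ⟨hb, hi⟩ := ShriekEnd.simple_RA ψ.toRingHom hE hab ε
  obtain ⟨eP⟩ := nonempty_bcD_self (R := S) (P := MvPolynomial (Fin n) S)
  let e : GP ψ (Dual.inD S S) ≅ ((RA ψ.toRingHom).obj (Dual.inD (MvPolynomial (Fin n) S) (MvPolynomial (Fin n) S)))⟦(n : ℤ)⟧ :=
    (shiftFunctor (Dual.D B) (n : ℤ)).mapIso ((RA ψ.toRingHom).mapIso eP)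
  let X := (RA ψ.toRingHom).obj (Dual.inD (MvPolynomial (Fin n) S) (MvPolynomial (Fin n) S))
  let F := shiftFunctor (Dual.D B) (n : ℤ)
  constructor
  · have h : (fun a : B => a • 𝟙 (GP ψ (Dual.inD S S))) =
        (Linear.homCongr B e.symm e.symm) ∘ (fun f : X ⟶ X => F.map f) ∘ fun a : B => a • 𝟙 X := by
      funext a
      change _ = (Linear.homCongr B e.symm e.symm) (F.map (a • 𝟙 X))
      rw [Functor.map_smul, CategoryTheory.Functor.map_id, map_smul]
      refine congrArg (a • ·) ?_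
      change 𝟙 _ = (e.hom ≫ 𝟙 _) ≫ e.inv
      erw [Category.comp_id, e.hom_inv_id]
    rw [h]
    exact (Linear.homCongr B e.symm e.symm).bijective.comp (((Functor.FullyFaithful.ofFullyFaithful F).map_bijective X X).comp hb)
  · intro i hi'
    haveI := hi i hi'
    haveI : Subsingleton (X⟦(n : ℤ)⟧ ⟶ (X⟦i⟧)⟦(n : ℤ)⟧) :=
      ((Functor.FullyFaithful.ofFullyFaithful F).homEquiv).symm.subsingleton
    exact (e.homCongr ((shiftFunctor (Dual.D B) i).mapIso e ≪≫ shiftComm X (n : ℤ) i)).subsingleton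

variable {R A : Type u} [CommRing R] [CommRing A] [Algebra R A] [Module.Flat R A] [Algebra.FinitePresentation R A]
  {n : ℕ} (ψ : MvPolynomial (Fin n) R →ₐ[R] A) (hψ : Function.Surjective ψ)
  (W : DRing.Cx (A ⊗[R] A)) (eW : DRing.toD W ≅ GP (RelPC.bcPres (R' := A) ψ) (Dual.inD A A))
  (hW : GrothLib.KF.IsKFlat W)

include hψ eW in
theorem simple_W :
    Function.Bijective (fun x : A ⊗[R] A => x • 𝟙 (DRing.toD W)) ∧
      ∀ i : ℤ, i ≠ 0 → Subsingleton (DRing.toD W ⟶ (DRing.toD W)⟦i⟧) := by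
  obtain ⟨hb, hi⟩ := simple_GP (RelPC.bcPres (R' := A) ψ) (RelPC.bcPres_surjective ψ hψ)
  refine ⟨?_, fun i h => ?_⟩
  · have h : (fun x : A ⊗[R] A => x • 𝟙 (DRing.toD W)) =
        (Linear.homCongr (A ⊗[R] A) eW.symm eW.symm) ∘ fun x => x • 𝟙 (GP (RelPC.bcPres (R' := A) ψ) (Dual.inD A A)) := by
      funext x
      simp [Linear.homCongr_apply]
    rw [h]
    exact (Linear.homCongr (A ⊗[R] A) eW.symm eW.symm).bijective.comp hb
  · haveI := hi i h
    exact (eW.homCongr ((shiftFunctor (Dual.D (A ⊗[R] A)) i).mapIso eW)).subsingleton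

include hψ eW in
/-- The upper shriek is a tensor product with the relative dualizing complex. -/
theorem nonempty_tens_bc (F : DRing.Cx A) (hF : GrothLib.KF.IsKFlat F) :
    Nonempty (DRing.toD (tens ((DR.bc (algebraMap A (A ⊗[R] A))).obj F) W) ≅
      GP (RelPC.bcPres (R' := A) ψ) (DRing.toD F)) := by
  haveI := GrothLib.KF.hasLBaseChange (algebraMap A (A ⊗[R] A))
  haveI := GrothLib.KF.hasLTensorCx W
  obtain ⟨e1⟩ := nonempty_GP_iso_LTensor (RelPC.bcPres (R' := A) ψ) (RelPC.bcPres_surjective ψ hψ) W eW (DRing.toD F)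
  obtain ⟨e2⟩ := GrothLib.KF.lBase_value (algebraMap A (A ⊗[R] A)) hF
  obtain ⟨e3⟩ := GrothLib.KF.lTensorCx_value W (GrothLib.KF.isKFlat_baseChange (algebraMap A (A ⊗[R] A)) F hF)
  exact ⟨(e1 ≪≫ (DRing.LTensorCx (A ⊗[R] A) W).mapIso e2 ≪≫ e3).symm⟩

include hψ eW in
/-- The relative dualizing complex sees nothing of the upper shriek of objects far to the left. -/
theorem exists_bound_GP : ∃ c : ℤ, ∀ (T : DRing.Cx A) (m j : ℤ), (∀ q, m ≤ q → IsZero (T.X q)) → m ≤ c + j →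
    Subsingleton (DRing.toD W ⟶ (GP (RelPC.bcPres (R' := A) ψ) (DRing.toD T))⟦j⟧) := by
  let ψb := RelPC.bcPres (R' := A) ψ
  let P := MvPolynomial (Fin n) A
  let φ : P →+* A ⊗[R] A := ψb.toRingHom
  letI : Algebra P (A ⊗[R] A) := φ.toAlgebra
  have hA : DRing.IsPerfectModule P (A ⊗[R] A) :=
    PHom.isPerfectModule_pres PHom.isPerfectHom_of_flat ψb (RelPC.bcPres_surjective ψ hψ)
  obtain ⟨eP⟩ := nonempty_bcD_self (R := A) (P := P)
  have hK : DRing.IsPerfect P ((DRing.restrictD φ).obj (DRing.toD W)) := by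
    obtain ⟨E, a, b, hv, hE, ⟨e⟩⟩ := DR.isPerfect_shift (isPerfect_restrictD_RA_self hA) (n : ℤ)
    exact ⟨E, a, b, hv, hE, ⟨e ≪≫ (((DRing.restrictD φ).commShiftIso (n : ℤ)).app _).symm ≪≫
      (DRing.restrictD φ).mapIso
        ((shiftFunctor (Dual.D (A ⊗[R] A)) (n : ℤ)).mapIso ((RA φ).mapIso eP.symm) ≪≫ eW.symm)⟩⟩
  obtain ⟨a, ha⟩ := exists_bound_perfect hK
  refine ⟨a + (n : ℤ), fun T m j hT hm => ?_⟩
  let a₁ := algebraMap A P
  let L := (ModuleCat.extendScalars.{u, u, u} a₁).mapHomologicalComplex (ComplexShape.up ℤ)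
  let eX : ((extD a₁).obj (DRing.toD T))⟦(n : ℤ) + j⟧ ≅ DRing.toD ((L.obj T)⟦(n : ℤ) + j⟧) :=
    (shiftFunctor (Dual.D P) ((n : ℤ) + j)).mapIso ((ModuleCat.extendScalars.{u, u, u} a₁).mapDerivedCategoryFactors.app T) ≪≫
      (((DerivedCategory.Q (C := ModuleCat.{u} P)).commShiftIso ((n : ℤ) + j)).app (L.obj T)).symm
  haveI h1 : Subsingleton ((DRing.restrictD φ).obj (DRing.toD W) ⟶ DRing.toD ((L.obj T)⟦(n : ℤ) + j⟧)) :=
    ha _ fun i hi => (ModuleCat.extendScalars.{u, u, u} a₁).map_isZero (hT (i + ((n : ℤ) + j)) (by omega))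
  haveI h2 : Subsingleton ((DRing.restrictD φ).obj (DRing.toD W) ⟶ ((extD a₁).obj (DRing.toD T))⟦(n : ℤ) + j⟧) :=
    eX.homToEquiv.subsingleton
  haveI h3 : Subsingleton (DRing.toD W ⟶ ((RA φ).obj ((extD a₁).obj (DRing.toD T)))⟦(n : ℤ) + j⟧) :=
    (homEquivShift φ (radj φ) (DRing.toD W) ((extD a₁).obj (DRing.toD T)) ((n : ℤ) + j)).subsingleton
  exact (((shiftFunctorAdd' (Dual.D (A ⊗[R] A)) (n : ℤ) j _ rfl).app
    ((RA φ).obj ((extD a₁).obj (DRing.toD T)))).symm.homToEquiv).subsingleton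

variable [W.IsKProjective] (hp : ∀ i, CategoryTheory.Projective (W.X i))

include hψ eW hW hp in
/-- **The unit on complexes coming from one factor.** -/
theorem quasiIso_eta_bc (F : DRing.Cx A) (hF : DRing.TermwiseFiniteFree F) (b : ℤ) (hb : DRing.VanishesAbove F b) :
    QuasiIso (eta W ((DR.bc (algebraMap A (A ⊗[R] A))).obj F)) := by
  let l := algebraMap A (A ⊗[R] A)
  obtain ⟨hs, hne⟩ := simple_W ψ hψ W eW
  have h1 := good_one W hW hs hne
  obtain ⟨c, hc⟩ := exists_bound_GP ψ hψ W eW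
  refine quasiIso_eta W hp _ fun i => ?_
  let m := min (i - 1) (c + (i - 1))
  obtain ⟨S, hS₂, hS₁, hf₁, hf₃, hz₃, ⟨σ⟩⟩ := exists_sigma_split F hF m
  subst hS₂
  have hflat : GrothLib.KF.IsKFlat S.X₃ := GrothLib.KF.isKFlat_of_vanishesAbove (b := m)
    (fun q hq => hz₃ q (by omega)) fun q => by
      haveI := (hf₃ q).2
      infer_instance
  have hzero : ∀ q, m ≤ q → IsZero (((DR.bc l).obj S.X₃).X q) := fun q hq =>
    (ModuleCat.extendScalars.{u, u, u} l).map_isZero (hz₃ q hq)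
  obtain ⟨eT⟩ := nonempty_tens_bc ψ hψ W eW S.X₃ hflat
  have hvan : ∀ j, i - 1 ≤ j → IsZero ((DRing.homCx W (tens ((DR.bc l).obj S.X₃) W)).homology j) := fun j hj => by
    refine isZero_homology_homCx W _ j ?_
    haveI := hc S.X₃ m j hz₃ (by omega)
    exact ((shiftFunctor (Dual.D (A ⊗[R] A)) j).mapIso eT).homToEquiv.subsingleton
  refine ⟨S.map (DR.bc l), rfl, ⟨fun q => (σ q).map (ModuleCat.extendScalars.{u, u, u} l)⟩, ?_,
    GrothLib.DualCx22.isZero_homology_of_X (hzero (i - 1) (by omega)),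
    GrothLib.DualCx22.isZero_homology_of_X (hzero i (by omega)), hvan (i - 1) le_rfl, hvan i (by omega)⟩
  refine (good_iff W hW _).1 (good_bounded W hW hp h1 _
    (termwiseFiniteFree_bc l hf₁) m b fun q hq => ?_)
  change IsZero (((DR.bc l).obj S.X₁).X q)
  rw [hS₁]
  refine (ModuleCat.extendScalars.{u, u, u} l).map_isZero ?_
  by_cases h : m ≤ q
  · haveI := DerBC.isIso_sigmaι_f (i := q) S.X₂ h
    exact (hb q (by omega)).of_iso (asIso ((DerBC.sigmaι m S.X₂).f q))
  · exact DerBC.isZero_sigmaGE S.X₂ (by omega)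

end GrothLib.RelDual22
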