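import Groth.Agent.Lib.DualRing.HomHD
import Groth.Agent.Lib.DCxRHom.HomProps
import Groth.Agent.Lib.DualRing.ActTens
import Groth.Agent.Lib.DCxRing.Stupid

/-! # The unit `Z ⟶ Hom(W, Z ⊗ W)` for a complex `W` of projective modules with simple class -/

set_option autoImplicit false
set_option linter.style.haveILetI false
set_option maxHeartbeats 800000
universe u

open CategoryTheory CategoryTheory.Limits MonoidalCategory CochainComplex.HomComplex HomologicalComplex ZeroObject
open GrothLib.RH (tens ιT oneCx)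
open scoped TensorProduct

attribute [local instance] HasDerivedCategory.standard

namespace GrothLib.RelDual22

open GrothLib.DualRing.Act (tensMap tensMap_ι)

variable {A : Type u} [CommRing A] (W : DRing.Cx A)

theorem curry_cocycle (Z : DRing.Cx A) :
    δ 0 1 (GrothLib.RH.curryFun Z W (tens Z W) 0 (Cochain.ofHom (𝟙 (tens Z W)))) = 0 := by
  apply (GrothLib.RH.assocEquiv Z W (tens Z W) 1).injective
  rw [← GrothLib.RH.assocEquiv_δ' Z W (tens Z W) 0 1 rfl, map_zero]
  exact (congrArg (δ 0 1) ((GrothLib.RH.assocEquiv Z W (tens Z W) 0).apply_symm_apply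
    (Cochain.ofHom (𝟙 (tens Z W))))).trans (δ_ofHom _)

/-- The unit of tensor and homomorphisms. -/
noncomputable def eta (Z : DRing.Cx A) : Z ⟶ DRing.homCx W (tens Z W) :=
  Cocycle.homOf (Cocycle.mk (GrothLib.RH.curryFun Z W (tens Z W) 0 (Cochain.ofHom (𝟙 (tens Z W)))) 1 rfl
    (curry_cocycle W Z))

theorem eta_v (Z : DRing.Cx A) (n r t : ℤ) (h : r + n = t) (z : Z.X n) (w : W.X r) :
    ((eta W Z).f n z).v r t h w = ιT Z W n r t (by omega) (z ⊗ₜ w) := by
  have := GrothLib.RH.curryFun_v Z W (tens Z W) 0 (Cochain.ofHom (𝟙 (tens Z W))) n n (add_zero n) z r t h t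
    (by omega) w
  refine this.trans ?_
  rw [Cochain.ofHom_v]
  rfl

theorem eta_natural {Z Z' : DRing.Cx A} (g : Z ⟶ Z') :
    eta W Z ≫ DRing.homCxMap W (tensMap g W) = g ≫ eta W Z' := by
  refine HomologicalComplex.hom_ext _ _ fun n => ModuleCat.hom_ext (LinearMap.ext fun z => ?_)
  refine Cochain.ext _ _ fun r t h => ModuleCat.hom_ext (LinearMap.ext fun w => ?_)
  change (((eta W Z).f n z).comp (Cochain.ofHom (tensMap g W)) (add_zero n)).v r t h w =
    ((eta W Z').f n (g.f n z)).v r t h w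
  rw [Cochain.comp_zero_cochain_v, Cochain.ofHom_v]
  refine (ConcreteCategory.comp_apply _ _ w).trans ?_
  rw [eta_v, eta_v, tensMap_ι]

instance additive_homCxFunctor : (DRing.homCxFunctor W).Additive where
  map_add {L L' f g} := HomologicalComplex.hom_ext _ _ fun n => ModuleCat.hom_ext (LinearMap.ext fun (z : Cochain W L n) => by
    change z.comp (Cochain.ofHom (f + g)) (add_zero n) =
      z.comp (Cochain.ofHom f) (add_zero n) + z.comp (Cochain.ofHom g) (add_zero n)
    rw [Cochain.ofHom_add, Cochain.comp_add])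

instance preservesZeroMorphisms_tensRight :
    ((GrothLib.KF.tensorCx (R := A)).flip.obj W).PreservesZeroMorphisms :=
  Functor.preservesZeroMorphisms_of_iso (GrothLib.KF.tensorFlipIso W).symm

variable [W.IsKProjective]

theorem quasiIso_two_of_three {S S' : ShortComplex (DRing.Cx A)}
    (hS : S.ShortExact) (hS' : S'.ShortExact) (φ : S ⟶ S') :
    (QuasiIso φ.τ₁ → QuasiIso φ.τ₂ → QuasiIso φ.τ₃) ∧ (QuasiIso φ.τ₁ → QuasiIso φ.τ₃ → QuasiIso φ.τ₂) ∧
      (QuasiIso φ.τ₂ → QuasiIso φ.τ₃ → QuasiIso φ.τ₁) := by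
  let t := DerivedCategory.triangleOfSES.map hS hS' φ
  have hT := DerivedCategory.triangleOfSES_distinguished hS
  have hT' := DerivedCategory.triangleOfSES_distinguished hS'
  simp only [← DerivedCategory.isIso_Q_map_iff_quasiIso]
  exact ⟨fun h₁ h₂ => Pretriangulated.isIso₃_of_isIso₁₂ t hT hT' h₁ h₂,
    fun h₁ h₃ => Pretriangulated.isIso₂_of_isIso₁₃ t hT hT' h₁ h₃,
    fun h₂ h₃ => Pretriangulated.isIso₁_of_isIso₂₃ t hT hT' h₂ h₃⟩

omit [W.IsKProjective] in
/-- Homomorphisms out of a complex of projectives preserve short exact sequences. -/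
theorem homCxMap_shortExact (hp : ∀ i, CategoryTheory.Projective (W.X i)) {S : ShortComplex (DRing.Cx A)}
    (hS : S.ShortExact) : (S.map (DRing.homCxFunctor W)).ShortExact := by
  refine HomologicalComplex.shortExact_of_degreewise_shortExact _ fun n => ?_
  have hn := fun t => hS.map_of_exact (HomologicalComplex.eval (ModuleCat.{u} A) (ComplexShape.up ℤ) t)
  have key : ∀ {Y Y' : DRing.Cx A} (g : Y ⟶ Y') (z : Cochain W Y n) (r t : ℤ) (h : r + n = t),
      ((DRing.homCxMap W g).f n z).v r t h = z.v r t h ≫ g.f t := fun g z r t h => by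
    change (z.comp (Cochain.ofHom g) (add_zero n)).v r t h = _
    rw [Cochain.comp_zero_cochain_v, Cochain.ofHom_v]
  refine { exact := ?_, mono_f := ?_, epi_g := ?_ }
  · rw [ShortComplex.moduleCat_exact_iff]
    intro (z : Cochain W S.X₂ n) hz
    have hz' : ∀ (r t : ℤ) (h : r + n = t), z.v r t h ≫ S.g.f t = 0 := fun r t h => by
      rw [← key]
      exact (congrArg (fun c : Cochain W S.X₃ n => c.v r t h) hz).trans rfl
    refine ⟨Cochain.mk fun r t h =>
      haveI := (hn t).mono_f
      (hn t).exact.lift (z.v r t h) (hz' r t h), Cochain.ext _ _ fun r t h => ?_⟩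
    refine (key _ _ r t h).trans ?_
    rw [Cochain.mk_v]
    haveI := (hn t).mono_f
    exact (hn t).exact.lift_f _ _
  · rw [ModuleCat.mono_iff_injective]
    intro (z : Cochain W S.X₁ n) (z' : Cochain W S.X₁ n) hzz
    refine Cochain.ext _ _ fun r t h => ?_
    haveI : Mono (S.f.f t) := (hn t).mono_f
    rw [← cancel_mono (S.f.f t), ← key, ← key]
    exact congrArg (fun c : Cochain W S.X₂ n => c.v r t h) hzz
  · rw [ModuleCat.epi_iff_surjective]
    intro (z : Cochain W S.X₃ n)
    refine ⟨Cochain.mk fun r t h =>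
      haveI : Epi (S.g.f t) := (hn t).epi_g
      haveI := hp r
      CategoryTheory.Projective.factorThru (z.v r t h) (S.g.f t), Cochain.ext _ _ fun r t h => ?_⟩
    refine (key _ _ r t h).trans ?_
    rw [Cochain.mk_v]
    haveI : Epi (S.g.f t) := (hn t).epi_g
    haveI := hp r
    exact CategoryTheory.Projective.factorThru_comp _ _

variable (hW : GrothLib.KF.IsKFlat W) (hp : ∀ i, CategoryTheory.Projective (W.X i))

include hW in
theorem quasiIso_eta_iff {Z Z' : DRing.Cx A} (g : Z ⟶ Z') [QuasiIso g] :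
    QuasiIso (eta W Z) ↔ QuasiIso (eta W Z') := by
  haveI : QuasiIso (tensMap g W) := GrothLib.KF.quasiIso_map_of_isKFlat g W hW
  haveI := GrothLib.RH.quasiIso_homCxMap_of_isKProjective W (tensMap g W)
  rw [← quasiIso_iff_comp_right (eta W Z) (DRing.homCxMap W (tensMap g W)), eta_natural, quasiIso_iff_comp_left]

omit [W.IsKProjective] in
theorem tensRight_shortExact {S : ShortComplex (DRing.Cx A)}
    (σ : ∀ q, (S.map (HomologicalComplex.eval (ModuleCat.{u} A) (ComplexShape.up ℤ) q)).Splitting) :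
    (S.map ((GrothLib.KF.tensorCx (R := A)).flip.obj W)).ShortExact :=
  ShortComplex.shortExact_of_iso (ShortComplex.mapNatIso S (GrothLib.KF.tensorFlipIso W)).symm
    (GrothLib.KF.tensorCx_shortExact_of_splitting σ W)

/-- The map of short complexes given by the unit. -/
noncomputable def etaShort (S : ShortComplex (DRing.Cx A)) :
    S ⟶ (S.map ((GrothLib.KF.tensorCx (R := A)).flip.obj W)).map (DRing.homCxFunctor W) :=
  ShortComplex.homMk (eta W S.X₁) (eta W S.X₂) (eta W S.X₃) (eta_natural W S.f) (eta_natural W S.g)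

include hp in
theorem quasiIso_eta_ext {S : ShortComplex (DRing.Cx A)}
    (σ : ∀ q, (S.map (HomologicalComplex.eval (ModuleCat.{u} A) (ComplexShape.up ℤ) q)).Splitting) :
    (QuasiIso (eta W S.X₁) → QuasiIso (eta W S.X₂) → QuasiIso (eta W S.X₃)) ∧
      (QuasiIso (eta W S.X₁) → QuasiIso (eta W S.X₃) → QuasiIso (eta W S.X₂)) ∧
      (QuasiIso (eta W S.X₂) → QuasiIso (eta W S.X₃) → QuasiIso (eta W S.X₁)) :=
  quasiIso_two_of_three (HomologicalComplex.shortExact_of_degreewise_shortExact _ fun q => (σ q).shortExact)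
    (homCxMap_shortExact W hp (tensRight_shortExact W σ)) (etaShort W S)

/-- The objects on which the unit is a quasi-isomorphism. -/
def Good : ObjectProperty (Dual.D A) := fun X =>
  ∀ Z : DRing.Cx A, Nonempty (DRing.toD Z ≅ X) → QuasiIso (eta W Z)

include hW in
theorem good_iff (Z : DRing.Cx A) : Good W (DRing.toD Z) ↔ QuasiIso (eta W Z) := by
  refine ⟨fun h => h Z ⟨Iso.refl _⟩, fun h Z' ⟨e⟩ => ?_⟩
  obtain ⟨V, s, hs, g, hg⟩ := DerivedCategory.right_fac e.hom
  haveI : QuasiIso s := (DerivedCategory.isIso_Q_map_iff_quasiIso _ s).1 hs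
  have hg' : IsIso (DerivedCategory.Q.map g) :=
    @IsIso.of_isIso_fac_left _ _ _ _ _ _ _ _ (inferInstance : IsIso (inv (DerivedCategory.Q.map s)))
      (inferInstance : IsIso e.hom) hg.symm
  haveI : QuasiIso g := (DerivedCategory.isIso_Q_map_iff_quasiIso _ g).1 hg'
  rw [← quasiIso_eta_iff W hW s, quasiIso_eta_iff W hW g]
  exact h

theorem good_of_iso {X Y : Dual.D A} (e : X ≅ Y) (h : Good W X) : Good W Y :=
  fun Z ⟨i⟩ => h Z ⟨i ≪≫ e.symm⟩

omit [W.IsKProjective] in
theorem acyclic_cone_id (Z : DRing.Cx A) : (CochainComplex.mappingCone (𝟙 Z)).Acyclic :=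
  (GrothLib.DerCat.quasiIso_iff_acyclic_mappingCone (𝟙 Z)).1 inferInstance

include hW in
theorem good_of_isZero {X : Dual.D A} (hX : IsZero X) : Good W X := by
  intro Z ⟨e⟩
  have h : IsIso (DerivedCategory.Q.map (0 : Z ⟶ 0)) :=
    (hX.of_iso e).isIso (Functor.map_isZero _ (isZero_zero _)) _
  haveI := (DerivedCategory.isIso_Q_map_iff_quasiIso (ModuleCat.{u} A) (0 : Z ⟶ 0)).1 h
  rw [quasiIso_eta_iff W hW (0 : Z ⟶ 0)]
  refine ⟨fun i => (quasiIsoAt_iff_isIso_homologyMap _ _).2 ?_⟩
  have h0 : IsZero (DRing.homCx W (tens (0 : DRing.Cx A) W)) :=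
    (DRing.homCxFunctor W).map_isZero (((GrothLib.KF.tensorCx (R := A)).flip.obj W).map_isZero (isZero_zero _))
  exact ((HomologicalComplex.homologyFunctor _ _ i).map_isZero (isZero_zero _)).isIso
    ((HomologicalComplex.homologyFunctor _ _ i).map_isZero h0) _

include hW hp in
theorem good_cone {K L : DRing.Cx A} (φ : K ⟶ L) (h1 : QuasiIso (eta W K)) (h2 : QuasiIso (eta W L)) :
    QuasiIso (eta W (CochainComplex.mappingCone φ)) := by
  have hc : QuasiIso (eta W (CochainComplex.mappingCone (𝟙 K))) := by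
    refine (good_iff W hW _).1 (good_of_isZero W hW ?_)
    exact GrothLib.DerTrunc.isZero_of_forall _ fun i => by
      exact ((HomologicalComplex.exactAt_iff_isZero_homology _ _).1 (acyclic_cone_id K i)).of_iso
        ((DerivedCategory.homologyFunctorFactors (ModuleCat.{u} A) i).app _)
  have hs := (quasiIso_eta_ext W hp (GrothLib.KF.coneSplitting (𝟙 K))).1 h1 hc
  exact (quasiIso_eta_ext W hp (GrothLib.KF.coneSplitting φ)).2.1 h2 hs

include hW hp in
theorem good_shift (X : Dual.D A) (h : Good W X) : Good W (X⟦(1 : ℤ)⟧) ∧ Good W (X⟦(-1 : ℤ)⟧) := by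
  have hcone : ∀ K : DRing.Cx A, QuasiIso (eta W (CochainComplex.mappingCone (𝟙 K))) := fun K => by
    refine (good_iff W hW _).1 (good_of_isZero W hW ?_)
    exact GrothLib.DerTrunc.isZero_of_forall _ fun i => by
      exact ((HomologicalComplex.exactAt_iff_isZero_homology _ _).1 (acyclic_cone_id K i)).of_iso
        ((DerivedCategory.homologyFunctorFactors (ModuleCat.{u} A) i).app _)
  let K := DerivedCategory.Q.objPreimage X
  let e : DRing.toD K ≅ X := DerivedCategory.Q.objObjPreimageIso X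
  have hK : QuasiIso (eta W K) := h K ⟨e⟩
  constructor
  · refine good_of_iso W (((DerivedCategory.Q (C := ModuleCat.{u} A)).commShiftIso (1 : ℤ)).app K ≪≫
      (shiftFunctor (Dual.D A) (1 : ℤ)).mapIso e) ((good_iff W hW _).2 ?_)
    exact (quasiIso_eta_ext W hp (GrothLib.KF.coneSplitting (𝟙 K))).1 hK (hcone K)
  · let L := K⟦(-1 : ℤ)⟧
    let eL : L⟦(1 : ℤ)⟧ ≅ K := (shiftFunctorCompIsoId (DRing.Cx A) (-1 : ℤ) 1 (by omega)).app K
    refine good_of_iso W (((DerivedCategory.Q (C := ModuleCat.{u} A)).commShiftIso (-1 : ℤ)).app K ≪≫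
      (shiftFunctor (Dual.D A) (-1 : ℤ)).mapIso e) ((good_iff W hW _).2 ?_)
    exact (quasiIso_eta_ext W hp (GrothLib.KF.coneSplitting (𝟙 L))).2.2 (hcone L)
      ((quasiIso_eta_iff W hW eL.hom).2 hK)

include hW hp in
theorem good_obj₂ (T : Pretriangulated.Triangle (Dual.D A)) (hT : T ∈ distTriang (Dual.D A))
    (h1 : Good W T.obj₁) (h3 : Good W T.obj₃) : Good W T.obj₂ := by
  have hT' := Pretriangulated.inv_rot_of_distTriang _ hT
  have h0 : Good W T.invRotate.obj₁ := (good_shift W hW hp _ h3).2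
  let L := DerivedCategory.Q.objPreimage T.obj₁
  let l : DRing.toD L ≅ T.obj₁ := DerivedCategory.Q.objObjPreimageIso T.obj₁
  let X₀ := DerivedCategory.Q.objPreimage T.invRotate.obj₁
  let x₀ : DRing.toD X₀ ≅ T.invRotate.obj₁ := DerivedCategory.Q.objObjPreimageIso T.invRotate.obj₁
  obtain ⟨P, s, hs, φ, hfac⟩ := DerivedCategory.right_fac (x₀.hom ≫ T.invRotate.mor₁ ≫ l.inv)
  let p : DRing.toD P ≅ T.invRotate.obj₁ := asIso (DerivedCategory.Q.map s) ≪≫ x₀
  have hφ : DerivedCategory.Q.map φ = p.hom ≫ T.invRotate.mor₁ ≫ l.inv := by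
    refine ((IsIso.eq_inv_comp (DerivedCategory.Q.map s)).1 hfac).symm.trans ?_
    simp [p]
  have hcone := good_cone W hW hp φ (h0 P ⟨p⟩) (h1 L ⟨l⟩)
  let e₀ := Pretriangulated.isoTriangleOfIso₁₂ _ _
    ((DerivedCategory.mem_distTriang_iff _).2 ⟨P, L, φ, ⟨Iso.refl _⟩⟩) hT' p l
    (by
      change DerivedCategory.Q.map φ ≫ l.hom = p.hom ≫ T.invRotate.mor₁
      rw [hφ, Category.assoc, Category.assoc]
      exact congrArg (p.hom ≫ ·) ((congrArg (T.invRotate.mor₁ ≫ ·) l.inv_hom_id).trans (Category.comp_id _)))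
  exact good_of_iso W (Pretriangulated.Triangle.π₃.mapIso e₀) ((good_iff W hW _).2 hcone)

include hW hp in
theorem good_bot (h1 : Good W (Dual.inD A A)) (n : ℤ) : Good W ((Dual.inD A A)⟦n⟧) := by
  induction n using Int.induction_on with
  | zero => exact good_of_iso W ((shiftFunctorZero (Dual.D A) ℤ).app _).symm h1
  | succ n hn =>
    exact good_of_iso W ((shiftFunctorAdd' (Dual.D A) (n : ℤ) 1 _ rfl).app (Dual.inD A A)).symm
      (good_shift W hW hp _ hn).1
  | pred n hn =>
    exact good_of_iso W ((shiftFunctorAdd' (Dual.D A) (-(n : ℤ)) (-1) _ rfl).app (Dual.inD A A)).symm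
      (good_shift W hW hp _ hn).2

include hW hp in
theorem good_free (h1 : Good W (Dual.inD A A)) (n : ℤ) (k : ℕ) : Good W ((Dual.inD A (Fin k → A))⟦n⟧) := by
  induction k with
  | zero =>
    refine good_of_isZero W hW (Functor.map_isZero _ (Functor.map_isZero _ ?_))
    exact ModuleCat.isZero_of_subsingleton _
  | succ k ih =>
    let S := ShortComplex.mk
      (ModuleCat.ofHom (LinearMap.inl A A (Fin k → A)) : ModuleCat.of A A ⟶ ModuleCat.of A (A × (Fin k → A)))
      (ModuleCat.ofHom (LinearMap.snd A A (Fin k → A)) : _ ⟶ ModuleCat.of A (Fin k → A))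
      (ModuleCat.hom_ext (LinearMap.ext fun _ => rfl))
    have hS : S.ShortExact :=
      { exact := (ShortComplex.moduleCat_exact_iff S).2 fun x hx =>
          ⟨(x.1 : A), Prod.ext rfl (show (0 : Fin k → A) = x.2 from (show x.2 = 0 from hx).symm)⟩
        mono_f := (ModuleCat.mono_iff_injective _).2 fun a b h => congrArg Prod.fst h
        epi_g := (ModuleCat.epi_iff_surjective _).2 fun y => ⟨((0 : A), y), rfl⟩ }
    have hT := Pretriangulated.Triangle.shift_distinguished _ (hS.singleTriangle_distinguished) n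
    refine good_of_iso W ((shiftFunctor (Dual.D A) n).mapIso
      ((DerivedCategory.singleFunctor (ModuleCat.{u} A) 0).mapIso (LinearEquiv.toModuleIso ?_)))
      (good_obj₂ W hW hp _ hT (good_bot W hW hp h1 n) ih)
    exact Fin.consLinearEquiv A (fun _ : Fin (k + 1) => A)

include hW hp in
theorem good_bounded (h1 : Good W (Dual.inD A A)) (E : DRing.Cx A) (hE : DRing.TermwiseFiniteFree E) (a b : ℤ)
    (hb : DRing.VanishesOutside E a b) : Good W (DRing.toD E) := by
  refine GrothLib.DR.prop_bounded (Good W) (fun e => good_of_iso W e) (fun X hX => good_of_isZero W hW hX)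
    (fun T hT h1' h3 => good_obj₂ W hW hp T hT h1' h3) E a b hb fun i _ _ => ?_
  haveI := (hE i).1
  haveI := (hE i).2
  let bs := Module.Free.chooseBasis A (E.X i)
  let e : E.X i ≅ ModuleCat.of A (Fin (Fintype.card (Module.Free.ChooseBasisIndex A (E.X i))) → A) :=
    (bs.reindex (Fintype.equivFin _)).equivFun.toModuleIso
  exact good_of_iso W ((shiftFunctor (Dual.D A) (-i)).mapIso
    ((DerivedCategory.singleFunctor (ModuleCat.{u} A) 0).mapIso e.symm)) (good_free W hW hp h1 (-i) _)

omit [W.IsKProjective] in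
/-- A complex of finite free modules is an extension of a tail by a bounded one. -/
theorem exists_sigma_split (E : DRing.Cx A) (hE : DRing.TermwiseFiniteFree E) (n : ℤ) :
    ∃ S : ShortComplex (DRing.Cx A),
      S.X₂ = E ∧ S.X₁ = DerBC.sigmaGE n E ∧
      DRing.TermwiseFiniteFree S.X₁ ∧ DRing.TermwiseFiniteFree S.X₃ ∧ (∀ q, n ≤ q → IsZero (S.X₃.X q)) ∧
      Nonempty (∀ q, (S.map (HomologicalComplex.eval (ModuleCat.{u} A) (ComplexShape.up ℤ) q)).Splitting) := by
  let ι := DerBC.sigmaι n E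
  haveI : Mono ι := HomologicalComplex.mono_of_mono_f ι fun _ => inferInstance
  let S : ShortComplex (DRing.Cx A) := ShortComplex.mk ι (cokernel.π ι) (cokernel.condition ι)
  have hS : S.ShortExact := { exact := ShortComplex.exact_of_g_is_cokernel _ (cokernelIsCokernel ι) }
  let ev := fun q => HomologicalComplex.eval (ModuleCat.{u} A) (ComplexShape.up ℤ) q
  have hq : ∀ q, (S.map (ev q)).ShortExact := fun q => hS.map_of_exact _
  have hX₃ : ∀ q, n ≤ q → IsZero (S.X₃.X q) := fun q hq' => by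
    haveI : IsIso ((S.map (ev q)).f) := DerBC.isIso_sigmaι_f E hq'
    haveI he : Epi (S.map (ev q)).g := (hq q).epi_g
    have : (S.map (ev q)).g = 0 := by
      rw [← cancel_epi (S.map (ev q)).f, (S.map (ev q)).zero, comp_zero]
    exact @IsZero.of_epi_eq_zero _ _ _ _ _ (S.map (ev q)).g he this
  have hlow : ∀ q, q < n → IsIso (S.map (ev q)).g := fun q hq' =>
    have : (S.map (ev q)).f = 0 := (DerBC.isZero_sigmaGE E hq').eq_of_src _ _
    haveI : Mono (S.map (ev q)).g := (hq q).exact.mono_g this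
    haveI : Epi (S.map (ev q)).g := (hq q).epi_g
    isIso_of_mono_of_epi _
  let σ : ∀ q, (S.map (ev q)).Splitting := fun q =>
    if h : n ≤ q then
      haveI : IsIso (S.map (ev q)).f := DerBC.isIso_sigmaι_f E h
      ShortComplex.Splitting.ofExactOfRetraction _ (hq q).exact (inv (S.map (ev q)).f) (IsIso.hom_inv_id _) (hq q).epi_g
    else
      haveI : IsIso (S.map (ev q)).g := hlow q (by omega)
      ShortComplex.Splitting.ofExactOfSection _ (hq q).exact (inv (S.map (ev q)).g) (IsIso.inv_hom_id _) (hq q).mono_f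
  refine ⟨S, rfl, rfl, fun q => ?_, fun q => ?_, hX₃, ⟨σ⟩⟩
  · change Module.Finite A ((DerBC.sigmaGE n E).X q) ∧ Module.Free A ((DerBC.sigmaGE n E).X q)
    by_cases h : n ≤ q
    · haveI := DerBC.isIso_sigmaι_f (i := q) E h
      haveI := (hE q).1
      haveI := (hE q).2
      let e : E.X q ≃ₗ[A] (DerBC.sigmaGE n E).X q := (asIso ((DerBC.sigmaι n E).f q)).symm.toLinearEquiv
      exact ⟨Module.Finite.equiv e, Module.Free.of_equiv e⟩
    · haveI := ModuleCat.subsingleton_of_isZero (DerBC.isZero_sigmaGE E (show q < n by omega))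
      exact ⟨inferInstance, inferInstance⟩
  · by_cases h : n ≤ q
    · haveI := ModuleCat.subsingleton_of_isZero (hX₃ q h)
      exact ⟨inferInstance, inferInstance⟩
    · haveI := hlow q (by omega)
      haveI := (hE q).1
      haveI := (hE q).2
      let e : E.X q ≃ₗ[A] S.X₃.X q := (asIso (S.map (ev q)).g).toLinearEquiv
      exact ⟨Module.Finite.equiv e, Module.Free.of_equiv e⟩

/-- A degreewise split extension whose quotient is invisible in degree `i`. -/
def InvisibleTail (E : DRing.Cx A) (i : ℤ) : Prop := ∃ (S : ShortComplex (DRing.Cx A)) (_ : S.X₂ = E),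
  Nonempty (∀ q, (S.map (HomologicalComplex.eval (ModuleCat.{u} A) (ComplexShape.up ℤ) q)).Splitting) ∧
  QuasiIso (eta W S.X₁) ∧ IsZero (S.X₃.homology (i - 1)) ∧ IsZero (S.X₃.homology i) ∧
  IsZero ((DRing.homCx W (tens S.X₃ W)).homology (i - 1)) ∧ IsZero ((DRing.homCx W (tens S.X₃ W)).homology i)

include hp in
/-- The unit is a quasi-isomorphism when tails are invisible. -/
theorem quasiIso_eta (E : DRing.Cx A) (h : ∀ i, InvisibleTail W E i) : QuasiIso (eta W E) := by
  refine ⟨fun i => (quasiIsoAt_iff_isIso_homologyMap _ i).2 ?_⟩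
  obtain ⟨S, rfl, ⟨σ⟩, hq, ha, hb, hc, hd⟩ := h i
  have hS : S.ShortExact := HomologicalComplex.shortExact_of_degreewise_shortExact _ fun q => (σ q).shortExact
  have hT := homCxMap_shortExact W hp (tensRight_shortExact W σ)
  have isIso_of : ∀ {T : ShortComplex (DRing.Cx A)}, T.ShortExact → IsZero (T.X₃.homology (i - 1)) →
      IsZero (T.X₃.homology i) → IsIso (HomologicalComplex.homologyMap T.f i) := fun {T} hT' ha' hb' =>
    haveI : Mono (HomologicalComplex.homologyMap T.f i) :=
      (hT'.homology_exact₁ (i - 1) i (show i - 1 + 1 = i by omega)).mono_g (ha'.eq_of_src _ _)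
    haveI : Epi (HomologicalComplex.homologyMap T.f i) :=
      (hT'.homology_exact₂ i).epi_f (hb'.eq_of_tgt _ _)
    isIso_of_mono_of_epi _
  haveI : IsIso (HomologicalComplex.homologyMap S.f i) := isIso_of hS ha hb
  haveI : IsIso (HomologicalComplex.homologyMap (DRing.homCxMap W (tensMap S.f W)) i) := isIso_of hT hc hd
  haveI := hq
  have hnat := congrArg (fun f => HomologicalComplex.homologyMap f i) (eta_natural W S.f)
  simp only [HomologicalComplex.homologyMap_comp] at hnat
  exact @IsIso.of_isIso_fac_left _ _ _ _ _ _ _ _ inferInstance inferInstance hnat.symm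

end GrothLib.RelDual22
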