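import Groth.Agent.Lib.DualRing.ShriekBaseChange

/-! # The upper shriek of a flat algebra of finite presentation over an arbitrary ring -/

set_option autoImplicit false
set_option linter.style.haveILetI false
set_option maxHeartbeats 800000
universe u

open CategoryTheory CategoryTheory.Limits HomologicalComplex GrothLib.DualCx22
open GrothLib.RH (tens oneCx)
open scoped TensorProduct

attribute [local instance] HasDerivedCategory.standard
attribute [local instance] GrothLib.DualRing.Shriek.pfl_of_flat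

namespace GrothLib.RelDual22

open GrothLib GrothLib.DualRing GrothLib.DualRing.Shriek

/-- The relative dualizing complex is perfect relative to the base. -/
theorem isRelPerfect_GP {R A : Type u} [CommRing R] [CommRing A] [Algebra R A] [Module.Flat R A]
    [Algebra.FinitePresentation R A] {n : ℕ} (ψ : MvPolynomial (Fin n) R →ₐ[R] A) (hψ : Function.Surjective ψ) :
    DRing.IsPseudoCoherent' A (GP ψ (Dual.inD R R)) ∧
      DRing.HasFiniteTorDimCx R ((DRing.restrictD (algebraMap R A)).obj (GP ψ (Dual.inD R R))) := by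
  letI : Algebra (MvPolynomial (Fin n) R) A := ψ.toRingHom.toAlgebra
  have hA : DRing.IsPerfectModule (MvPolynomial (Fin n) R) A :=
    PHom.isPerfectModule_pres PHom.isPerfectHom_of_flat ψ hψ
  obtain ⟨eb⟩ := DR.nonempty_map_inD (bcMod (A := R) (MvPolynomial (Fin n) R)) R
  let eP : (bcD (A := R) (MvPolynomial (Fin n) R)).obj (Dual.inD R R) ≅
      Dual.inD (MvPolynomial (Fin n) R) (MvPolynomial (Fin n) R) :=
    (bcD (A := R) (MvPolynomial (Fin n) R)).mapIso (DCpl.eSingle (ModuleCat.of R R)) ≪≫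
      (bcMod (A := R) (MvPolynomial (Fin n) R)).mapDerivedCategoryFactors.app _ ≪≫ eb ≪≫
      (DerivedCategory.singleFunctor (ModuleCat.{u} (MvPolynomial (Fin n) R)) 0).mapIso
        ((DR.nonempty_extendScalars_iso (B := MvPolynomial (Fin n) R) R).some.symm ≪≫
          (TensorProduct.AlgebraTensorModule.rid R (MvPolynomial (Fin n) R) (MvPolynomial (Fin n) R)).toModuleIso)
  have hK : DRing.IsPerfect (MvPolynomial (Fin n) R)
      ((DRing.restrictD ψ.toRingHom).obj (GP ψ (Dual.inD R R))) := by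
    obtain ⟨E, a, b, hv, hE, ⟨e⟩⟩ := DR.isPerfect_shift (isPerfect_restrictD_RA_self hA) (n : ℤ)
    exact ⟨E, a, b, hv, hE, ⟨e ≪≫ (((DRing.restrictD ψ.toRingHom).commShiftIso (n : ℤ)).app _).symm ≪≫
      (DRing.restrictD ψ.toRingHom).mapIso
        ((shiftFunctor (Dual.D A) (n : ℤ)).mapIso ((RA ψ.toRingHom).mapIso eP.symm))⟩⟩
  obtain ⟨hpc, a, b, ht⟩ := DR.isPerfect_iff.1 hK
  refine ⟨(DR.isPseudoCoherent'_restrictD_iff (DR.ringPseudoCoherent_algebraMap (DR.isPerfect_iff.1 hA).1) _).2 hpc,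
    a, b, ?_⟩
  obtain ⟨eT⟩ := restrictScalarsAlgebraIso (P := R) (MvPolynomial (Fin n) R)
  have h0 := DR.hasTorAmplitudeIn_restrictD (algebraMap R (MvPolynomial (Fin n) R)) 0 (DR.hasTorAmplitudeIn_of_iso
    ((DerivedCategory.singleFunctor (ModuleCat.{u} R) 0).mapIso eT).symm
    (by simpa using DR.hasTorAmplitudeIn_flat (A := R) (MvPolynomial (Fin n) R))) ht
  exact DR.hasTorAmplitudeIn_of_iso ((resTrans (algebraMap R A) ψ.toRingHom (algebraMap R (MvPolynomial (Fin n) R))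
    ψ.comp_algebraMap.symm).app _) (by simpa using h0)

/-- **The upper shriek, through the relative dualizing complex.** -/
theorem nonempty_GP_iso_LTensor {R A : Type u} [CommRing R] [CommRing A] [Algebra R A]
    [Module.Flat R A] [Algebra.FinitePresentation R A] {n : ℕ} (ψ : MvPolynomial (Fin n) R →ₐ[R] A)
    (hψ : Function.Surjective ψ) (W : DRing.Cx A) (eW : DRing.toD W ≅ GP ψ (Dual.inD R R))
    [DRing.HasLBaseChange (algebraMap R A)] [DRing.HasLTensorCx A W] (K : Dual.D R) :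
    Nonempty (GP ψ K ≅ (DRing.LTensorCx A W).obj ((DRing.LBaseChange (algebraMap R A)).obj K)) := by
  let φ : MvPolynomial (Fin n) R →+* A := ψ.toRingHom
  letI : Algebra (MvPolynomial (Fin n) R) A := φ.toAlgebra
  obtain ⟨E, a, b, ε, hE, hab, hε⟩ := exists_eps φ (PHom.isPerfectModule_pres PHom.isPerfectHom_of_flat ψ hψ)
  obtain ⟨eP⟩ := nonempty_bcD_self (R := R) (P := MvPolynomial (Fin n) R)
  let eW0 : DRing.toD (W⟦(-(n : ℤ))⟧) ≅ (RA φ).obj (Dual.inD (MvPolynomial (Fin n) R) (MvPolynomial (Fin n) R)) :=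
    ((DerivedCategory.Q (C := ModuleCat.{u} A)).commShiftIso (-(n : ℤ))).app W ≪≫
      (shiftFunctor (Dual.D A) (-(n : ℤ))).mapIso eW ≪≫
      (shiftFunctorCompIsoId (Dual.D A) (n : ℤ) (-(n : ℤ)) (add_neg_cancel _)).app _ ≪≫ (RA φ).mapIso eP
  obtain ⟨F₀, hF₀, -, ⟨e₀⟩⟩ := GrothLib.KF.exists_kflat_rep K
  let a₁ := algebraMap R (MvPolynomial (Fin n) R)
  let F := (DR.bc a₁).obj F₀
  have hF : GrothLib.KF.IsKFlat F := GrothLib.KF.isKFlat_baseChange a₁ F₀ hF₀
  haveI : DRing.HasLBaseChange a₁ := GrothLib.KF.hasLBaseChange a₁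
  haveI : DRing.HasLBaseChange φ := GrothLib.KF.hasLBaseChange φ
  obtain ⟨eL⟩ := nonempty_lBase_iso_bcD (A := R) (MvPolynomial (Fin n) R)
  obtain ⟨eF⟩ := GrothLib.KF.lBase_value a₁ hF₀
  let eK : (bcD (A := R) (MvPolynomial (Fin n) R)).obj K ≅ DRing.toD F :=
    (bcD (A := R) (MvPolynomial (Fin n) R)).mapIso e₀.symm ≪≫ (eL.app _).symm ≪≫ eF
  obtain ⟨eT⟩ := Act.nonempty_RA_iso_tens φ ε hE hab (W⟦(-(n : ℤ))⟧) eW0 F hF
  -- the value of the tensor product
  let G := (DR.bc φ).obj F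
  have hG : GrothLib.KF.IsKFlat G := GrothLib.KF.isKFlat_baseChange φ F hF
  obtain ⟨eG⟩ := GrothLib.KF.lBase_value φ hF
  obtain ⟨ec⟩ := DR.nonempty_lBase_comp a₁ φ (algebraMap R A) ψ.comp_algebraMap.symm (DRing.toD F₀)
  obtain ⟨eV⟩ := GrothLib.KF.lTensorCx_value W hG
  let eR : (DRing.LTensorCx A W).obj ((DRing.LBaseChange (algebraMap R A)).obj K) ≅ DRing.toD (tens W G) :=
    (DRing.LTensorCx A W).mapIso ((DRing.LBaseChange (algebraMap R A)).mapIso e₀.symm ≪≫ ec.symm ≪≫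
      (DRing.LBaseChange φ).mapIso eF ≪≫ eG) ≪≫ eV ≪≫
      DerivedCategory.Q.mapIso (GrothLib.KF.tensorCxSymm G W).symm
  exact ⟨(shiftFunctor (Dual.D A) (n : ℤ)).mapIso ((RA φ).mapIso eK ≪≫ eT ≪≫
      DerivedCategory.Q.mapIso (tensShiftIso W G (-(n : ℤ))) ≪≫
      ((DerivedCategory.Q (C := ModuleCat.{u} A)).commShiftIso (-(n : ℤ))).app (tens W G)) ≪≫
    (shiftFunctorCompIsoId (Dual.D A) (-(n : ℤ)) (n : ℤ) (neg_add_cancel _)).app _ ≪≫ eR.symm⟩

/-- **Base change of the upper shriek of a flat algebra.** -/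
theorem nonempty_GP_baseChange {R R' A : Type u} [CommRing R] [CommRing R'] [CommRing A] [Algebra R R'] [Algebra R A] [Module.Flat R A] [Algebra.FinitePresentation R A]
    {n : ℕ} (ψ : MvPolynomial (Fin n) R →ₐ[R] A) (hψ : Function.Surjective ψ)
    [DRing.HasLBaseChange (Algebra.TensorProduct.includeRight : A →ₐ[R] R' ⊗[R] A).toRingHom]
    [DRing.HasLBaseChange (algebraMap R R')] (K : Dual.D R) :
    Nonempty ((DRing.LBaseChange (Algebra.TensorProduct.includeRight : A →ₐ[R] R' ⊗[R] A).toRingHom).obj (GP ψ K) ≅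
      GP (RelPC.bcPres (R' := R') ψ) ((DRing.LBaseChange (algebraMap R R')).obj K)) := by
  let α : A →+* R' ⊗[R] A := (Algebra.TensorProduct.includeRight : A →ₐ[R] R' ⊗[R] A).toRingHom
  let ψb := RelPC.bcPres (R' := R') ψ
  have hψb : Function.Surjective ψb := RelPC.bcPres_surjective ψ hψ
  let φ : MvPolynomial (Fin n) R →+* A := ψ.toRingHom
  let ρ : MvPolynomial (Fin n) R →+* MvPolynomial (Fin n) R' := MvPolynomial.map (algebraMap R R')
  let φ' : MvPolynomial (Fin n) R' →+* R' ⊗[R] A := ψb.toRingHom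
  haveI : Algebra.FinitePresentation R' (R' ⊗[R] A) := inferInstance
  letI algP : Algebra (MvPolynomial (Fin n) R) A := φ.toAlgebra
  obtain ⟨E, a, b, ε, hE, hab, hε⟩ := exists_eps φ (PHom.isPerfectModule_pres PHom.isPerfectHom_of_flat ψ hψ)
  haveI := hε
  haveI := pfl_of_flat R (P := MvPolynomial (Fin n) R)
  haveI := pfl_of_flat R' (P := MvPolynomial (Fin n) R')
  -- a representative of the relative dual
  obtain ⟨W, hWK, -, ⟨eW⟩⟩ := GrothLib.KF.exists_kflat_rep
    ((RA φ).obj (Dual.inD (MvPolynomial (Fin n) R) (MvPolynomial (Fin n) R)))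
  have hT : letI := φ.toAlgebra; letI := ρ.toAlgebra;
      ∀ p : ℕ, 1 ≤ p → Subsingleton (DRing.Tor (MvPolynomial (Fin n) R) p A (MvPolynomial (Fin n) R')) := by
    letI : Algebra (MvPolynomial (Fin n) R) (MvPolynomial (Fin n) R') := ρ.toAlgebra
    haveI : IsScalarTower R (MvPolynomial (Fin n) R) A := IsScalarTower.of_algebraMap_eq fun r => (ψ.commutes r).symm
    haveI : IsScalarTower R (MvPolynomial (Fin n) R) (MvPolynomial (Fin n) R') :=
      IsScalarTower.of_algebraMap_eq fun r => by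
        refine Eq.trans ?_ (MvPolynomial.map_C (algebraMap R R') r).symm
        exact IsScalarTower.algebraMap_apply R R' (MvPolynomial (Fin n) R') r
    have hpush : Algebra.IsPushout R (MvPolynomial (Fin n) R) R' (MvPolynomial (Fin n) R') := by
      letI := MvPolynomial.algebraMvPolynomial (σ := Fin n) (R := R) (S := R')
      have := Algebra.IsPushout.symm
        (inferInstance : Algebra.IsPushout R R' (MvPolynomial (Fin n) R) (MvPolynomial (Fin n) R'))
      convert this using 1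
      all_goals rfl
    exact fun p hp => subsingleton_tor_of_flat (R := R) (R' := R') p hp
  have hcomp : α.comp φ = φ'.comp ρ := RelPC.bcPres_comp (R' := R') ψ
  have hpo : DR.IsPushoutHom φ ρ α φ' hcomp := RelPC.isPushoutHom_pres ψ
  obtain ⟨eW'⟩ := Act.nonempty_RA_bc hcomp hpo hT hE hab ε W hWK eW
  -- the representatives of the upper shrieks
  obtain ⟨eP⟩ := nonempty_bcD_self (R := R) (P := MvPolynomial (Fin n) R)
  obtain ⟨eP'⟩ := nonempty_bcD_self (R := R') (P := MvPolynomial (Fin n) R')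
  let V := W⟦(n : ℤ)⟧
  have hV : GrothLib.KF.IsKFlat V := GrothLib.KF.isKFlat_shift hWK _
  let eV : DRing.toD V ≅ GP ψ (Dual.inD R R) :=
    ((DerivedCategory.Q (C := ModuleCat.{u} A)).commShiftIso (n : ℤ)).app W ≪≫
      (shiftFunctor (Dual.D A) (n : ℤ)).mapIso (eW ≪≫ (RA φ).mapIso eP.symm)
  let V' := (DR.bc α).obj V
  let eS : V' ≅ ((DR.bc α).obj W)⟦(n : ℤ)⟧ :=
    ((ModuleCat.extendScalars.{u, u, u} α).mapHomologicalComplex (ComplexShape.up ℤ)).commShiftIso (n : ℤ) |>.app W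
  let eV' : DRing.toD V' ≅ GP ψb (Dual.inD R' R') :=
    DerivedCategory.Q.mapIso eS ≪≫
      ((DerivedCategory.Q (C := ModuleCat.{u} (R' ⊗[R] A))).commShiftIso (n : ℤ)).app ((DR.bc α).obj W) ≪≫
      (shiftFunctor (Dual.D (R' ⊗[R] A)) (n : ℤ)).mapIso (eW'.symm ≪≫ (RA φ').mapIso eP'.symm)
  haveI := GrothLib.KF.hasLBaseChange (algebraMap R A)
  haveI := GrothLib.KF.hasLBaseChange (algebraMap R' (R' ⊗[R] A))
  haveI := GrothLib.KF.hasLBaseChange (algebraMap R (R' ⊗[R] A))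
  haveI := GrothLib.KF.hasLTensorCx V
  haveI := GrothLib.KF.hasLTensorCx V'
  obtain ⟨e1⟩ := nonempty_GP_iso_LTensor ψ hψ V eV K
  obtain ⟨e2⟩ := nonempty_GP_iso_LTensor ψb hψb V' eV' ((DRing.LBaseChange (algebraMap R R')).obj K)
  -- the base change
  obtain ⟨X, hX, -, ⟨eX⟩⟩ := GrothLib.KF.exists_kflat_rep ((DRing.LBaseChange (algebraMap R A)).obj K)
  obtain ⟨t1⟩ := GrothLib.KF.lTensorCx_value V hX
  obtain ⟨t2⟩ := GrothLib.KF.lBase_value α (GrothLib.RH.isKFlat_tens hX hV)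
  let X' := (DR.bc α).obj X
  have hX' : GrothLib.KF.IsKFlat X' := GrothLib.KF.isKFlat_baseChange α X hX
  obtain ⟨t3⟩ := GrothLib.KF.lTensorCx_value V' hX'
  obtain ⟨t4⟩ := GrothLib.KF.lBase_value α hX
  obtain ⟨c1⟩ := DR.nonempty_lBase_comp (algebraMap R A) α (algebraMap R (R' ⊗[R] A))
    (Algebra.TensorProduct.includeRight : A →ₐ[R] R' ⊗[R] A).comp_algebraMap.symm K
  obtain ⟨c2⟩ := DR.nonempty_lBase_comp (algebraMap R R') (algebraMap R' (R' ⊗[R] A)) (algebraMap R (R' ⊗[R] A))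
    (IsScalarTower.algebraMap_eq R R' (R' ⊗[R] A)) K
  let eX' : DRing.toD X' ≅ (DRing.LBaseChange (algebraMap R' (R' ⊗[R] A))).obj ((DRing.LBaseChange (algebraMap R R')).obj K) :=
    t4.symm ≪≫ (DRing.LBaseChange α).mapIso eX ≪≫ c1 ≪≫ c2.symm
  exact ⟨(DRing.LBaseChange α).mapIso (e1 ≪≫ (DRing.LTensorCx A V).mapIso eX.symm ≪≫ t1) ≪≫ t2 ≪≫
    DerivedCategory.Q.mapIso (DR.bcTensorIso α X V) ≪≫ t3.symm ≪≫
    (DRing.LTensorCx (R' ⊗[R] A) V').mapIso eX' ≪≫ e2.symm⟩

end GrothLib.RelDual22
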