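import Groth.Agent.Lib.RelDual22.Diag
import Groth.Agent.Lib.DCxRing.TorLocalMax
import Groth.Agent.Lib.DualCx22.RestrictSmul

/-! # Homomorphisms out of the relative dualizing complex, read on the diagonal -/

set_option autoImplicit false
set_option linter.style.haveILetI false
set_option maxHeartbeats 800000
universe u

open CategoryTheory CategoryTheory.Limits HomologicalComplex GrothLib.DualCx22
open GrothLib.RH (tens oneCx)
open scoped TensorProduct

attribute [local instance] HasDerivedCategory.standard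
attribute [local instance] GrothLib.DualRing.Shriek.pfl_of_flat

namespace GrothLib.RelDual22

open GrothLib GrothLib.DualRing GrothLib.DualRing.Shriek

/-- Extending along a section and then along the retraction. -/
noncomputable def bcRetract {A B : Type u} [CommRing A] [CommRing B] (g : A →+* B) (μ : B →+* A)
    (h : μ.comp g = RingHom.id A) (E : DRing.Cx A) : (DR.bc μ).obj ((DR.bc g).obj E) ≅ E :=
  let N : ModuleCat.extendScalars.{u, u, u} g ⋙ ModuleCat.extendScalars.{u, u, u} μ ≅ 𝟭 (ModuleCat.{u} A) :=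
    (ModuleCat.extendScalarsComp g μ).symm ≪≫ eqToIso (congrArg (fun f => ModuleCat.extendScalars.{u, u, u} f) h) ≪≫
      ModuleCat.extendScalarsId A
  HomologicalComplex.Hom.isoOfComponents (fun i => N.app (E.X i)) fun i j _ => (N.hom.naturality (E.d i j)).symm

/-- The adjoint transpose is semilinear. -/
theorem radj_symm_smul {B A : Type u} [CommRing B] [CommRing A] (μ : B →+* A) {X : Dual.D A} {Y : Dual.D B}
    (x : B) (f : X ⟶ (RA μ).obj Y) :
    ((radj μ).homEquiv X Y).symm (μ x • f) = x • ((radj μ).homEquiv X Y).symm f := by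
  rw [Adjunction.homEquiv_counit, Adjunction.homEquiv_counit, restrictD_map_smul, Linear.smul_comp]

theorem radj_smul {B A : Type u} [CommRing B] [CommRing A] (μ : B →+* A) {X : Dual.D A} {Y : Dual.D B}
    (x : B) (g : (DRing.restrictD μ).obj X ⟶ Y) :
    (radj μ).homEquiv X Y (x • g) = μ x • (radj μ).homEquiv X Y g :=
  ((radj μ).homEquiv X Y).symm.injective (by rw [radj_symm_smul, Equiv.symm_apply_apply, Equiv.symm_apply_apply])

variable {R A : Type u} [CommRing R] [CommRing A] [Algebra R A] [Module.Flat R A] [Algebra.FinitePresentation R A]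
  {n : ℕ} (ψ : MvPolynomial (Fin n) R →ₐ[R] A) (hψ : Function.Surjective ψ)

/-- The multiplication. -/
noncomputable abbrev mu (R A : Type u) [CommRing R] [CommRing A] [Algebra R A] : A ⊗[R] A →+* A :=
  (Algebra.TensorProduct.lmul' R (S := A)).toRingHom

theorem mu_comp_left : (mu R A).comp (algebraMap A (A ⊗[R] A)) = RingHom.id A :=
  RingHom.ext fun a => by simp [mu, Algebra.TensorProduct.algebraMap_apply]

theorem mu_comp_right :
    (mu R A).comp (Algebra.TensorProduct.includeRight : A →ₐ[R] A ⊗[R] A).toRingHom = RingHom.id A :=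
  RingHom.ext fun a => by simp [mu]

include hψ in
/-- The diagonal undoes the upper shriek. -/
theorem nonempty_RA_mu_GP (L : Dual.D A) :
    Nonempty ((RA (mu R A)).obj (GP (RelPC.bcPres (R' := A) ψ) L) ≅ L) := by
  let ψb : MvPolynomial (Fin n) A →+* A ⊗[R] A := (RelPC.bcPres (R' := A) ψ).toRingHom
  let s : MvPolynomial (Fin n) A →ₐ[A] A := MvPolynomial.aeval fun j => ψ (MvPolynomial.X j)
  have hs : s.toRingHom = (mu R A).comp ψb :=
    MvPolynomial.ringHom_ext (fun r => by simp [s, mu, ψb, RelPC.bcPres, Algebra.TensorProduct.algebraMap_apply])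
      (fun j => by simp [s, mu, ψb, RelPC.bcPres])
  obtain ⟨e2⟩ := nonempty_GP_self s L
  obtain ⟨es⟩ := nonempty_RA_shift (mu R A) ((RA ψb).obj ((extD (algebraMap A (MvPolynomial (Fin n) A))).obj L)) (n : ℤ)
  exact ⟨es ≪≫ (shiftFunctor (Dual.D A) (n : ℤ)).mapIso ((raTrans _ _ _ hs).app _) ≪≫ e2⟩

variable [DRing.HasLBaseChange (algebraMap A (A ⊗[R] A))] (E : DRing.Cx A) (hE : DRing.TermwiseFiniteFree E)
  (bE : ℤ) (hbE : DRing.VanishesAbove E bE) (eE : DRing.toD E ≅ GP ψ (Dual.inD R R))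

include hψ hE hbE eE in
/-- **Homomorphisms out of the relative dualizing complex.** -/
theorem exists_phi (F : DRing.Cx A) (hF : DRing.TermwiseFiniteFree F) (b : ℤ) (hb : DRing.VanishesAbove F b) :
    ∃ e : (Dual.inD A A ⟶ (RA (mu R A)).obj ((DRing.LBaseChange (algebraMap A (A ⊗[R] A))).obj (DRing.toD F))) ≃
        (DRing.toD E ⟶ DRing.toD F), ∀ (a : A) f, e (a • f) = a • e f := by
  let B := A ⊗[R] A
  let μ := mu R A
  let l := algebraMap A B
  let α : A →+* B := (Algebra.TensorProduct.includeRight : A →ₐ[R] A ⊗[R] A).toRingHom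
  let ψb := RelPC.bcPres (R' := A) ψ
  haveI : DRing.HasLBaseChange α := GrothLib.KF.hasLBaseChange α
  haveI : DRing.HasLBaseChange (algebraMap R A) := GrothLib.KF.hasLBaseChange _
  have flatTerms : ∀ {C : Type u} [CommRing C] {X : DRing.Cx C} {c : ℤ}, DRing.TermwiseFiniteFree X →
      DRing.VanishesAbove X c → GrothLib.KF.IsKFlat X := fun {C} _ {X c} hX hc =>
    GrothLib.KF.isKFlat_of_vanishesAbove (b := c) hc fun i => by
      haveI := (hX i).2
      infer_instance
  -- the kernel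
  let W := (DR.bc α).obj E
  have hWf : DRing.TermwiseFiniteFree W := termwiseFiniteFree_bc α hE
  have hWv : DRing.VanishesAbove W bE := fun i hi => (ModuleCat.extendScalars.{u, u, u} α).map_isZero (hbE i hi)
  have hWk : GrothLib.KF.IsKFlat W := flatTerms hWf hWv
  have hproj : ∀ i, Module.Projective B (W.X i) := fun i => by
    haveI := (hWf i).2
    infer_instance
  haveI : W.IsKProjective := DR.isKProjective W bE hWv hproj
  have hp : ∀ i, CategoryTheory.Projective (W.X i) := fun i => by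
    haveI := hproj i
    infer_instance
  have hEk := flatTerms hE hbE
  have hFk := flatTerms hF hb
  obtain ⟨eo⟩ := GrothLib.KF.lBase_value α hEk
  obtain ⟨eg⟩ := nonempty_GP_baseChange (R' := A) ψ hψ (Dual.inD R R)
  obtain ⟨eA⟩ := GrothLib.KF.lBase_value (algebraMap R A) (GrothLib.DT.isKFlat_sCx (A := R) 0)
  let e1 : ∀ (C : Type u) [CommRing C], DRing.toD (oneCx C) ≅ Dual.inD C C := fun C _ =>
    ((DerivedCategory.singleFunctorIsoCompQ (ModuleCat.{u} C) 0).app _).symm
  let eI : (DRing.LBaseChange (algebraMap R A)).obj (Dual.inD R R) ≅ Dual.inD A A :=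
    (DRing.LBaseChange (algebraMap R A)).mapIso (e1 R).symm ≪≫ eA ≪≫
      DerivedCategory.Q.mapIso (GrothLib.DualRing.Act.bcOne (algebraMap R A)) ≪≫ e1 A
  let eW : DRing.toD W ≅ GP ψb (Dual.inD A A) :=
    eo.symm ≪≫ (DRing.LBaseChange α).mapIso eE ≪≫ eg ≪≫
      (shiftFunctor (Dual.D B) (n : ℤ)).mapIso
        ((RA ψb.toRingHom).mapIso ((extD (algebraMap A (MvPolynomial (Fin n) A))).mapIso eI))
  -- the source
  let Z := (DR.bc l).obj F
  haveI := quasiIso_eta_bc ψ hψ W eW hWk hp F hF b hb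
  obtain ⟨J, j, hj, hJ⟩ := GrothLib.RH.exists_resolution (tens Z W)
  haveI := GrothLib.RH.quasiIso_homCxMap_of_isKProjective W j
  haveI : (DRing.homCx W J).IsKInjective := GrothLib.RH.isKInjective_homCx W J hWk
  haveI := GrothLib.RH.quasiIso_Q (eta W Z ≫ DRing.homCxMap W j)
  haveI := GrothLib.RH.quasiIso_Q j
  let T := (DRing.restrictCx μ).obj (oneCx A)
  obtain ⟨c1⟩ := GrothLib.DualRing.exists_HD_homCx_equiv T (DRing.homCx W J) 0
  obtain ⟨c2⟩ := GrothLib.DualRing.exists_HD_homCx_equiv (tens T W) J 0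
  let k : (DRing.toD T ⟶ DRing.toD Z) ≃ₗ[B] (DRing.toD (tens T W) ⟶ DRing.toD (tens Z W)) :=
    Linear.homCongr B (Iso.refl _) (asIso (DerivedCategory.Q.map (eta W Z ≫ DRing.homCxMap W j)) ≪≫
        ((shiftFunctorZero (Dual.D B) ℤ).app _).symm) ≪≫ₗ c1.symm ≪≫ₗ
      ((DerivedCategory.homologyFunctor (ModuleCat.{u} B) 0).mapIso
        (DerivedCategory.Q.mapIso (GrothLib.RH.assocIso T W J))).toLinearEquiv ≪≫ₗ c2 ≪≫ₗ
      Linear.homCongr B (Iso.refl _) ((shiftFunctorZero (Dual.D B) ℤ).app _ ≪≫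
        (asIso (DerivedCategory.Q.map j)).symm)
  -- both ends
  haveI : IsIso (GrothLib.DualRing.Act.lam ((DR.bc μ).obj W)) := GrothLib.DualRing.Act.isIso_lam _
  let t : tens T W ≅ (DRing.restrictCx μ).obj E :=
    (GrothLib.KF.baseChangeTensorIso μ (oneCx A) W).symm ≪≫
      (DRing.restrictCx μ).mapIso (asIso (GrothLib.DualRing.Act.lam ((DR.bc μ).obj W)) ≪≫
        bcRetract α μ mu_comp_right E)
  let Fac := (ModuleCat.restrictScalars.{u} μ).mapDerivedCategoryFactors
  let sT : (DRing.restrictD μ).obj (Dual.inD A A) ≅ DRing.toD T :=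
    (DRing.restrictD μ).mapIso (e1 A).symm ≪≫ Fac.app (oneCx A)
  let sW : DRing.toD (tens T W) ≅ (DRing.restrictD μ).obj (DRing.toD E) :=
    DerivedCategory.Q.mapIso t ≪≫ (Fac.app E).symm
  obtain ⟨eZ⟩ := nonempty_tens_bc ψ hψ W eW F hFk
  obtain ⟨eY⟩ := GrothLib.KF.lBase_value l hFk
  obtain ⟨eD⟩ := nonempty_RA_mu_GP ψ hψ (DRing.toD F)
  let k' : ((DRing.restrictD μ).obj (Dual.inD A A) ⟶ (DRing.LBaseChange l).obj (DRing.toD F)) ≃ₗ[B]
      ((DRing.restrictD μ).obj (DRing.toD E) ⟶ GP ψb (DRing.toD F)) :=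
    Linear.homCongr B sT eY ≪≫ₗ k ≪≫ₗ Linear.homCongr B sW eZ
  refine ⟨(((radj μ).homEquiv _ _).symm.trans k'.toEquiv).trans
    (((radj μ).homEquiv _ _).trans (Linear.homCongr A (Iso.refl (DRing.toD E)) eD).toEquiv), fun a f => ?_⟩
  have ha : μ (l a) = a := RingHom.congr_fun (mu_comp_left (R := R) (A := A)) a
  change Linear.homCongr A (Iso.refl (DRing.toD E)) eD ((radj μ).homEquiv _ _ (k' (((radj μ).homEquiv _ _).symm (a • f)))) = _
  conv_lhs => rw [← ha, radj_symm_smul, map_smul, radj_smul, map_smul, ha]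
  rfl

end GrothLib.RelDual22
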