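import Groth.Prelude.Def_DualSh
import Groth.Agent.Lib.RelDual22.Main
import Groth.Agent.Lib.RelDual22.Comp

/-! # Relative dualizing complexes are upper shrieks -/

set_option autoImplicit false
set_option linter.style.haveILetI false
set_option maxHeartbeats 800000
universe u

open CategoryTheory CategoryTheory.Limits GrothLib.DualCx22
open scoped TensorProduct

attribute [local instance] HasDerivedCategory.standard
attribute [local instance] GrothLib.DualRing.Shriek.pfl_of_flat

namespace GrothLib.RelDual22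

open GrothLib GrothLib.DualRing GrothLib.DualRing.Shriek

theorem exists_presentation (R A : Type u) [CommRing R] [CommRing A] [Algebra R A] [Algebra.FinitePresentation R A] :
    ∃ (n : ℕ) (ψ : MvPolynomial (Fin n) R →ₐ[R] A), Function.Surjective ψ :=
  let ⟨n, f, hf, _⟩ := Algebra.FinitePresentation.out (R := R) (A := A)
  ⟨n, f, hf⟩

theorem isRelPerfect_of_iso {R A : Type u} [CommRing R] [CommRing A] [Algebra R A] {K L : Dual.D A} (e : K ≅ L)
    (h : Dual2.IsRelPerfect R A K) : Dual2.IsRelPerfect R A L := by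
  obtain ⟨⟨E, b, hb, hE, ⟨i⟩⟩, a', b', ht⟩ := h
  exact ⟨⟨E, b, hb, hE, ⟨i ≪≫ e⟩⟩, a', b', DR.hasTorAmplitudeIn_of_iso ((DRing.restrictD (algebraMap R A)).mapIso e) ht⟩

variable {R A : Type u} [CommRing R] [CommRing A] [Algebra R A] [Module.Flat R A] [Algebra.FinitePresentation R A]
  [hl : DRing.HasLBaseChange (Algebra.TensorProduct.includeLeftRingHom : A →+* TensorProduct R A A)]
  (Rμ : Dual.D (TensorProduct R A A) ⥤ Dual.D A)
  (adjμ : DRing.restrictD (Algebra.TensorProduct.lmul' R (S := A)).toRingHom ⊣ Rμ)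
  {n : ℕ} (ψ : MvPolynomial (Fin n) R →ₐ[R] A) (hψ : Function.Surjective ψ)

include adjμ hψ in
/-- The upper shriek of the base is relative dualizing. -/
theorem isRelDualizing_GP : Dual2.IsRelDualizing R A Rμ (GP ψ (Dual.inD R R)) := by
  haveI : DRing.HasLBaseChange (algebraMap A (A ⊗[R] A)) := hl
  obtain ⟨e⟩ := nonempty_diag_GP ψ hψ
  exact ⟨isRelPerfect_GP ψ hψ, ⟨(adjμ.rightAdjointUniq (radj (mu R A))).app _ ≪≫ e⟩⟩

include adjμ hψ in
/-- A relative dualizing complex is the upper shriek of the base. -/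
theorem iso_GP_of_isRelDualizing {K : Dual.D A} (hK : Dual2.IsRelDualizing R A Rμ K) :
    Nonempty (K ≅ GP ψ (Dual.inD R R)) := by
  haveI : DRing.HasLBaseChange (algebraMap A (A ⊗[R] A)) := hl
  obtain ⟨e⟩ := hK.2
  exact nonempty_iso_GP ψ hψ hK.1.1 ⟨((adjμ.rightAdjointUniq (radj (mu R A))).app _).symm ≪≫ e⟩

theorem isRelDualizing_of_iso {K L : Dual.D A} (e : K ≅ L) (h : Dual2.IsRelDualizing R A Rμ K) :
    Dual2.IsRelDualizing R A Rμ L := by
  obtain ⟨h1, ⟨i⟩⟩ := h
  exact ⟨isRelPerfect_of_iso e h1, ⟨Rμ.mapIso ((DRing.LBaseChange _).mapIso e.symm) ≪≫ i⟩⟩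

/-- The derived base change of the ring. -/
theorem nonempty_lBase_inD (R R' : Type u) [CommRing R] [CommRing R'] [Algebra R R']
    [DRing.HasLBaseChange (algebraMap R R')] :
    Nonempty ((DRing.LBaseChange (algebraMap R R')).obj (Dual.inD R R) ≅ Dual.inD R' R') := by
  obtain ⟨e⟩ := GrothLib.KF.lBase_value (algebraMap R R') (GrothLib.DT.isKFlat_sCx (A := R) 0)
  exact ⟨(DRing.LBaseChange (algebraMap R R')).mapIso
      ((DerivedCategory.singleFunctorIsoCompQ (ModuleCat.{u} R) 0).app (ModuleCat.of R R)) ≪≫ e ≪≫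
    DerivedCategory.Q.mapIso (GrothLib.DualRing.Act.bcOne (algebraMap R R')) ≪≫
    ((DerivedCategory.singleFunctorIsoCompQ (ModuleCat.{u} R') 0).app (ModuleCat.of R' R')).symm⟩

end GrothLib.RelDual22
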